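import Groth.Agent.AlgSpThick.Const
import Groth.Agent.AlgSpBasic.EtaleFibres
import Groth.Agent.AlgSpBasic.Glue

/-!
# A thickening of a scheme is a scheme
-/

set_option autoImplicit false
set_option backward.isDefEq.respectTransparency false

universe u

open CategoryTheory CategoryTheory.Limits AlgebraicGeometry Opposite AlgSp Groth.AlgSpBasic TopologicalSpace

namespace Groth.AlgSpThick

variable {S : Scheme.{u}}

/-- Precomposing with an isomorphism does not change the fibre degree. -/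
theorem fibDeg_iso_comp {P X Y : Scheme.{u}} (e : P ⟶ X) [IsIso e] (f : X ⟶ Y) [LocallyQuasiFinite f]
    [LocallyQuasiFinite (e ≫ f)] (y : Y) (hfin : (f ⁻¹' {y}).Finite) :
    Groth.FlatMor2.fibDeg (e ≫ f) y = Groth.FlatMor2.fibDeg f y := by
  let g := Y.fromSpecResidueField y
  have hg : Groth.FlatMor2.ptOf g = y := Y.fromSpecResidueField_apply y _
  have hfin' : ((e ≫ f) ⁻¹' {y}).Finite :=
    (Set.Finite.preimage (e.isClosedEmbedding.injective.injOn) hfin : (e ⁻¹' (f ⁻¹' {y})).Finite)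
  obtain ⟨-, h1⟩ := Groth.FlatMor2.finite_snd_field (e ≫ f) g y hg hfin' default
  obtain ⟨h3, h2⟩ := Groth.FlatMor2.finite_snd_field f g y hg hfin default
  rw [← h1, ← h2]
  let a : pullback (e ≫ f) g ⟶ pullback f g :=
    pullback.map _ _ _ _ e (𝟙 _) (𝟙 Y) (by simp) (by simp)
  have : IsIso a := inferInstance
  have ha : a ≫ pullback.snd f g = pullback.snd (e ≫ f) g := by simp [a]
  have := h3
  have := Misc3Fib.flat_of_field (pullback.snd f g)
  exact congrFun (ha ▸ Scheme.Hom.finrank_comp_left_of_isIso a (pullback.snd f g)) _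

/-- Fibre degrees are stable under base change. -/
theorem fibDeg_of_isPullback {P T X Y : Scheme.{u}} {fst : P ⟶ X} {snd : P ⟶ T} {f : X ⟶ Y} {g : T ⟶ Y}
    (sq : IsPullback fst snd f g) [LocallyQuasiFinite f] [LocallyQuasiFinite snd] (t : T)
    (hfin : (f ⁻¹' {g t}).Finite) :
    Groth.FlatMor2.fibDeg snd t = Groth.FlatMor2.fibDeg f (g t) := by
  obtain ⟨h1, h2⟩ := Groth.FlatMor2.fibre_baseChange f g t hfin
  have hsnd : snd = sq.isoPullback.hom ≫ pullback.snd f g := (sq.isoPullback_hom_snd).symm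
  have : LocallyQuasiFinite (sq.isoPullback.hom ≫ pullback.snd f g) := hsnd ▸ ‹_›
  rw [← h2, hsnd]
  exact fibDeg_iso_comp _ _ t h1

/-- An open subscheme of the reduced side gives an open subspace thickening it. -/
theorem exists_open_piece {X' : Sp S} (hX' : IsAlgSpace X') {T : Over S} {i : (yon S).obj T ⟶ X'}
    (hi : IsThickMor i) (V : T.left.Opens) :
    ∃ (X₀ : Sp S) (u : X₀ ⟶ X') (k : (yon S).obj (Over.mk (V.ι ≫ T.hom)) ⟶ X₀),
      IsAlgSpace X₀ ∧ RepWith @IsOpenImmersion u ∧ IsThickMor k ∧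
      IsPullback ((yon S).map (Over.homMk V.ι rfl : Over.mk (V.ι ≫ T.hom) ⟶ T)) k i u := by
  obtain ⟨X₀, u, k, h₀, hu, sq⟩ := Groth.AlgSp2.exists_open_of_thick hi hX'
    (IsAlgSpace.yon_obj _) (u := (yon S).map (Over.homMk V.ι rfl : Over.mk (V.ι ≫ T.hom) ⟶ T))
    ((repWith_yon_map_iff _ _).2 (inferInstanceAs (IsOpenImmersion V.ι)))
  exact ⟨X₀, u, k, h₀, hu, repWith_of_isPullback sq hi, sq⟩

namespace Datum

variable (D : Datum S)

theorem isOpen_Omega : IsOpen D.Omega := by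
  rw [isOpen_iff_forall_mem_open]
  rintro z ⟨G, a, ha, hz⟩
  refine ⟨Points.ofPt D.i ⁻¹' Set.range (Points.ofPt a), fun w hw => ⟨G, a, ha, hw⟩, ?_, hz⟩
  exact Points.isOpen_iff.1 (isOpenMap_ofPt_of_repWith
    (fun _ _ φ (h : IsOpenImmersion φ) => φ.isOpenEmbedding.isOpenMap) ha).isOpen_range D.Z D.i

theorem finite_fibres : ∀ x, ((Spec.map D.uU.left.appTop) ⁻¹' {x}).Finite := by
  obtain ⟨_, _, _, _, _, _⟩ := D.specMap_uU
  exact fun x => (Spec.map D.uU.left.appTop).finite_preimage_singleton x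

set_option maxHeartbeats 1000000 in
/-- The datum over a basic open of the reduced side. -/
theorem exists_restrict (h : Γ(D.Z.left, ⊤)) :
    ∃ (D₀ : Datum S) (w : D₀.Z ⟶ D.Z) (u : D₀.X' ⟶ D.X'), IsOpenImmersion w.left ∧
      Set.range w.left = (D.Z.left.basicOpen h : Set ↥D.Z.left) ∧ RepWith @IsOpenImmersion u ∧
      D₀.i ≫ u = (yon S).map w ≫ D.i ∧ (∀ z, D₀.deg z = D.deg (w.left z)) ∧
      Set.range D₀.U'.hom ⊆ Set.range D.U'.hom := by
  let V : D.Z.left.Opens := D.Z.left.basicOpen h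
  obtain ⟨X₀, u, k₀, hX₀, hu, hk, sqV⟩ := exists_open_piece D.isAlgSpace D.hi V
  let ZV : Over S := Over.mk (V.ι ≫ D.Z.hom)
  let ιV : ZV ⟶ D.Z := Over.homMk V.ι rfl
  obtain ⟨b, hb⟩ := D.surjective_jU (D.uU.left.appTop h)
  let Ub : Over S := Over.mk ((D.U'.left.basicOpen b).ι ≫ D.U'.hom)
  let ιb : Ub ⟶ D.U' := Over.homMk (D.U'.left.basicOpen b).ι rfl
  have : Mono u := Groth.AlgSp2.mono_of_open hu
  have : Mono ιb := (Over.forget S).mono_of_mono_map (inferInstanceAs (Mono (D.U'.left.basicOpen b).ι))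
  -- the points of the piece on the chart
  have hmemZ : ∀ z, Points.ofPt D.i z ∈ Set.range (Points.map u) ↔ z ∈ V := fun z => by
    have e := range_map_eq_of_isPullback sqV.flip
    rw [ofPt_eq_map D.i z]
    refine Iff.trans (Set.ext_iff.1 e.symm (Points.schemeEquiv D.Z z) :
      _ ↔ Points.schemeEquiv D.Z z ∈ Set.range (Points.map ((yon S).map ιV))) ?_
    constructor
    · rintro ⟨w, hw⟩
      obtain ⟨w₀, rfl⟩ := (Points.schemeEquiv ZV).surjective w
      rw [show Points.map ((yon S).map ιV) (Points.schemeEquiv ZV w₀) = Points.ofPt ((yon S).map ιV) w₀ from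
        (ofPt_eq_map _ _).symm] at hw
      have := congrArg (Points.toScheme D.Z) hw
      rw [Points.toScheme_ofPt] at this
      rw [show Points.toScheme D.Z (Points.schemeEquiv D.Z z) = z from Points.toScheme_ofScheme D.Z z] at this
      rw [← this]
      exact w₀.2
    · intro hz
      refine ⟨Points.schemeEquiv ZV ⟨z, hz⟩, ?_⟩
      refine (Points.schemeEquiv D.Z).symm.injective ?_
      show Points.toScheme D.Z (Points.map ((yon S).map ιV) (Points.schemeEquiv ZV ⟨z, hz⟩)) =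
        Points.toScheme D.Z (Points.schemeEquiv D.Z z)
      rw [show Points.map ((yon S).map ιV) (Points.schemeEquiv ZV ⟨z, hz⟩) =
        Points.ofPt ((yon S).map ιV) ⟨z, hz⟩ from (ofPt_eq_map _ _).symm, Points.toScheme_ofPt]
      exact (Points.toScheme_ofScheme D.Z z).symm
  have hmemU : ∀ y, Points.ofPt D.p y ∈ Set.range (Points.map u) ↔ y ∈ D.U'.left.basicOpen b := fun y => by
    obtain ⟨v, rfl⟩ := D.hjU.2.surj y
    have e : Points.ofPt D.p (D.jU.left v) = Points.ofPt D.i (D.uU.left v) := by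
      rw [← ofPt_comp_yon, ← ofPt_comp_yon, D.sq.w]
    rw [e, hmemZ]
    change v ∈ D.uU.left ⁻¹ᵁ D.Z.left.basicOpen h ↔ v ∈ D.jU.left ⁻¹ᵁ D.U'.left.basicOpen b
    rw [Scheme.preimage_basicOpen_top, Scheme.preimage_basicOpen_top, hb]
  have hlift : ∀ {T : Over S} (c : T ⟶ D.U'), (∀ x, c.left x ∈ D.U'.left.basicOpen b) →
      ∃ g : (yon S).obj T ⟶ X₀, g ≫ u = (yon S).map c ≫ D.p := fun {T} c hc =>
    exists_lift_of_range_openImmersion (IsAlgSpace.yon_obj T) hu _ (by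
      rintro _ ⟨w, rfl⟩
      obtain ⟨w₀, rfl⟩ := (Points.schemeEquiv T).surjective w
      rw [show Points.map ((yon S).map c ≫ D.p) (Points.schemeEquiv T w₀) =
        Points.ofPt ((yon S).map c ≫ D.p) w₀ from (ofPt_eq_map _ _).symm, ofPt_comp_yon]
      exact (hmemU _).2 (hc w₀))
  obtain ⟨pb, hpb⟩ := hlift ιb fun x => x.2
  have sqb : IsPullback ((yon S).map ιb) pb D.p u := by
    refine isPullback_of_lifts hpb.symm (fun T c d hcd => ?_) fun T x x' h₁ _ => (cancel_mono ((yon S).map ιb)).1 h₁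
    obtain ⟨c, rfl⟩ := (yon S).map_surjective c
    have hr : Set.range c.left ⊆ Set.range (D.U'.left.basicOpen b).ι := by
      rintro _ ⟨x, rfl⟩
      rw [Scheme.Opens.range_ι]
      refine (hmemU _).1 ⟨Points.map d (Points.schemeEquiv T x), ?_⟩
      rw [← Points.map_comp, ← hcd]
      exact (ofPt_eq_map _ _).symm.trans (ofPt_comp_yon _ _ _)
    let l : T ⟶ Ub := Over.homMk (IsOpenImmersion.lift _ c.left hr) (by
      show IsOpenImmersion.lift _ c.left hr ≫ (D.U'.left.basicOpen b).ι ≫ D.U'.hom = T.hom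
      rw [IsOpenImmersion.lift_fac_assoc, Over.w c])
    have hl : l ≫ ιb = c := Over.OverMorphism.ext (IsOpenImmersion.lift_fac _ _ _)
    exact ⟨(yon S).map l, by rw [← Functor.map_comp, hl], (cancel_mono u).1 (by
      rw [Category.assoc, hpb, ← Functor.map_comp_assoc, hl, hcd])⟩
  have he₀ : RepWith @Etale pb := repWith_of_isPullback sqb D.he
  have hs₀ : RepWith @Surjective pb := repWith_of_isPullback sqb D.hs
  have : IsAffine ZV.left := (isAffineOpen_top D.Z.left).basicOpen h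
  have : IsAffine Ub.left := (isAffineOpen_top D.U'.left).basicOpen b
  obtain ⟨U₀, jU₀, uU₀, sq₀⟩ := exists_pullback_yon he₀.rep k₀
  obtain ⟨R, t, s, sqR⟩ := exists_pullback_yon he₀.rep pb
  have hjU₀ : MoreMor.IsThickening jU₀.left := hk.property pb _ jU₀ sq₀.flip
  have : IsAffine U₀.left := by have := hjU₀.1; exact isAffine_of_isAffineHom jU₀.left
  obtain ⟨R₂, jR, lam, pr, hR₂, hjR, hjt, hjs, sq₂⟩ := exists_kernelPair_thick hjU₀ sq₀ sqR
  have : IsAffine R.left := by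
    have := hjR.1
    have := hjR.2
    exact FlatMor2.isAffine_of_surjective_closedImmersion jR.left
  refine ⟨⟨X₀, hX₀, ZV, Ub, U₀, R, R₂, ‹_›, ‹_›, ‹_›, ‹_›, k₀, hk, pb, he₀, hs₀, jU₀, uU₀, hjU₀, sq₀, t, s,
    sqR, jR, lam, pr, hjR, hjt, hjs, sq₂⟩, ιV, u, (inferInstance : IsOpenImmersion V.ι), V.range_ι, hu,
    sqV.w.symm, fun z => ?_, ?_⟩
  · -- the chart of the piece is the base change of the chart
    obtain ⟨q, hq⟩ := (yon S).map_surjective (D.sq.lift ((yon S).map (jU₀ ≫ ιb)) ((yon S).map (uU₀ ≫ ιV)) (by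
      rw [Functor.map_comp, Category.assoc, sqb.w, ← Category.assoc, sq₀.w, Category.assoc, ← sqV.w,
        ← Category.assoc, ← Functor.map_comp]))
    have hqj : q ≫ D.jU = jU₀ ≫ ιb := (yon S).map_injective (by rw [Functor.map_comp, hq, D.sq.lift_fst])
    have hqu : q ≫ D.uU = uU₀ ≫ ιV := (yon S).map_injective (by rw [Functor.map_comp, hq, D.sq.lift_snd])
    have sqUF : IsPullback q uU₀ D.uU ιV := by
      refine isPullback_of_yon (IsPullback.of_right ?_ ?_ D.sq)
      · rw [← Functor.map_comp, hqj, Functor.map_comp, sqV.w]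
        exact sq₀.paste_horiz sqb
      · rw [← Functor.map_comp, ← Functor.map_comp, hqu]
    have sqS : IsPullback (Spec.map q.left.appTop) (Spec.map uU₀.left.appTop) (Spec.map D.uU.left.appTop)
        (Spec.map ιV.left.appTop) :=
      (isPullback_left sqUF).of_iso U₀.left.isoSpec D.U.left.isoSpec ZV.left.isoSpec D.Z.left.isoSpec
        (Scheme.isoSpec_hom_naturality _).symm (Scheme.isoSpec_hom_naturality _).symm
        (Scheme.isoSpec_hom_naturality _).symm (Scheme.isoSpec_hom_naturality _).symm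
    obtain ⟨_, _, _, _, _, _⟩ := D.specMap_uU
    have : Etale (Spec.map uU₀.left.appTop) := MorphismProperty.of_isPullback sqS ‹_›
    have := Groth.DescentBase.locallyQuasiFinite_of_etale (Spec.map uU₀.left.appTop)
    refine (fibDeg_of_isPullback sqS (ZV.left.isoSpec.hom z) (D.finite_fibres _)).trans ?_
    show Groth.FlatMor2.fibDeg _ _ = Groth.FlatMor2.fibDeg _ (D.Z.left.isoSpec.hom (ιV.left z))
    congr 1
    exact congrArg (fun k : ZV.left ⟶ Spec Γ(D.Z.left, ⊤) => k z) (Scheme.isoSpec_hom_naturality ιV.left)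
  · rintro _ ⟨x, rfl⟩
    exact ⟨(D.U'.left.basicOpen b).ι x, rfl⟩

set_option maxHeartbeats 1000000 in
/-- Every point of a thickening of an affine scheme has a schematic neighbourhood. -/
theorem omega_eq_univ {S₀ : S.Opens} (hS₀ : IsAffineOpen S₀)
    (hU : Set.range D.U'.hom ⊆ (S₀ : Set ↥S)) : D.Omega = Set.univ := by
  classical
  by_contra hne
  obtain ⟨_, _, _, _, _, _⟩ := D.specMap_uU
  let f := Spec.map D.uU.left.appTop
  have hfin := D.finite_fibres
  let e := D.Z.left.isoSpec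
  let C : Set (PrimeSpectrum Γ(D.Z.left, ⊤)) := e.inv ⁻¹' D.Omegaᶜ
  have hC : IsClosed C := D.isOpen_Omega.isClosed_compl.preimage e.inv.continuous
  obtain ⟨z₀, hz₀⟩ := (Set.ne_univ_iff_exists_notMem _).1 hne
  have hCne : C.Nonempty := ⟨e.hom z₀, by simpa [C] using hz₀⟩
  obtain ⟨g, k, ⟨x₀, hx₀⟩, hempty⟩ := exists_basicOpen_disjoint hC hCne
    (fun d => {x | d ≤ Groth.FlatMor2.fibDeg f x}) (Groth.FlatMor2.isOpen_le_fibDeg f hfin)
    fun p _ => ⟨Groth.FlatMor2.fibDeg f p + 1, by simp⟩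
  -- the maximal degree
  let Q := fun d => ∃ x ∈ C ∩ (PrimeSpectrum.basicOpen g : Set _), d ≤ Groth.FlatMor2.fibDeg f x
  let n := Nat.findGreatest Q k
  obtain ⟨x, hx, hnx⟩ : Q n := Nat.findGreatest_spec (P := Q) (Nat.zero_le k) ⟨x₀, hx₀, Nat.zero_le _⟩
  have hmax : ∀ y ∈ C ∩ (PrimeSpectrum.basicOpen g : Set _), Groth.FlatMor2.fibDeg f y ≤ n := fun y hy => by
    refine Nat.le_findGreatest ?_ ⟨y, hy, le_rfl⟩
    by_contra hlt
    exact (Set.eq_empty_iff_forall_notMem.1 hempty) y ⟨hy, (not_le.1 hlt).le⟩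
  -- a basic open around `x` of degree at least `n`
  obtain ⟨_, ⟨h, rfl⟩, hxh, hsub⟩ := PrimeSpectrum.isTopologicalBasis_basic_opens.exists_subset_of_mem_open
    (show x ∈ (PrimeSpectrum.basicOpen g : Set (PrimeSpectrum Γ(D.Z.left, ⊤))) ∩ {y | n ≤ Groth.FlatMor2.fibDeg f y} from ⟨hx.2, hnx⟩)
    ((PrimeSpectrum.basicOpen g).2.inter (Groth.FlatMor2.isOpen_le_fibDeg f hfin n))
  obtain ⟨D₀, w, u, hw, hwr, hu, hiu, hdeg, hU₀⟩ := D.exists_restrict h
  have hVpre : ∀ z, z ∈ D.Z.left.basicOpen h ↔ e.hom z ∈ PrimeSpectrum.basicOpen h := fun z => by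
    rw [← Scheme.toSpecΓ_preimage_basicOpen]; rfl
  have hin : ∀ z, e.hom (w.left z) ∈ (PrimeSpectrum.basicOpen h : Set (PrimeSpectrum Γ(D.Z.left, ⊤))) := fun z =>
    (hVpre _).1 (hwr.le ⟨z, rfl⟩)
  have hpt : ∀ z, Points.map u (Points.ofPt D₀.i z) = Points.ofPt D.i (w.left z) := fun z => by
    rw [Points.map_ofPt, hiu, ofPt_comp_yon]
  have : Mono u := Groth.AlgSp2.mono_of_open hu
  have hΩ : ∀ z, w.left z ∈ D.Omega → z ∈ D₀.Omega := by
    rintro z ⟨G, a, ha, hz⟩
    obtain ⟨G₀, snd, fst, sqG⟩ := hu.rep a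
    have ha₀ : RepWith @IsOpenImmersion fst := repWith_of_isPullback sqG.flip ha
    refine ⟨G₀, fst, ha₀, ?_⟩
    obtain ⟨g₀, hg₀⟩ := hz
    obtain ⟨x, hx₁, -⟩ := exists_point_of_isPullback sqG (Points.ofPt D₀.i z) (Points.schemeEquiv G g₀) (by
      rw [hpt, ← hg₀]
      exact ofPt_eq_map _ _)
    obtain ⟨x₀, rfl⟩ := (Points.schemeEquiv G₀).surjective x
    exact ⟨x₀, (ofPt_eq_map _ _).trans hx₁⟩
  obtain ⟨Y, hY, ⟨φ⟩⟩ := D₀.exists_affine_of_constant_stratum hS₀ (hU₀.trans hU) n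
    (fun z => by rw [hdeg]; exact (hsub (hin z)).2) fun z hz => by
      rw [hdeg]
      refine le_antisymm (hmax _ ⟨?_, (hsub (hin z)).1⟩) (hsub (hin z)).2
      show e.inv (e.hom (w.left z)) ∉ D.Omega
      rw [← Scheme.Hom.comp_apply, Iso.hom_inv_id]
      exact fun h' => hz (hΩ z h')
  obtain ⟨z, hz⟩ : e.inv x ∈ Set.range w.left := hwr.ge ((hVpre _).2 (by
    rw [← Scheme.Hom.comp_apply, Iso.inv_hom_id]; exact hxh))
  refine hx.1 ⟨Y, φ.hom ≫ u, repWith_comp (repWith_isIso φ.hom) hu, ?_⟩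
  rw [← hz, ← hpt]
  obtain ⟨y, hy⟩ := surjective_ofPt_of_repWith (a := φ.hom) (repWith_isIso φ.hom) (Points.ofPt D₀.i z)
  exact ⟨y, by rw [← Points.map_ofPt, hy]⟩

end Datum

/-- A thickening of a scheme is a scheme. -/
theorem exists_iso_yon_of_thick {X' : Sp S} (hX' : IsAlgSpace X') {T : Over S}
    {i : (yon S).obj T ⟶ X'} (hi : IsThickMor i) :
    ∃ T' : Over S, Nonempty ((yon S).obj T' ≅ X') := by
  have hcov : ∀ x : Points X', ∃ (G : Over S) (a : (yon S).obj G ⟶ X'),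
      RepWith @IsOpenImmersion a ∧ x ∈ Set.range (Points.ofPt a) := by
    intro x
    obtain ⟨x₀, rfl⟩ := (Groth.AlgSp2.isHomeomorph_map_of_isThickMor hi).surjective x
    obtain ⟨t, rfl⟩ := (Points.schemeEquiv T).surjective x₀
    obtain ⟨_, ⟨S₀, hS₀, rfl⟩, htS, -⟩ :=
      S.isBasis_affineOpens.exists_subset_of_mem_open (Set.mem_univ (T.hom t)) isOpen_univ
    obtain ⟨V, hV, htV, hVS⟩ :=
      exists_isAffineOpen_mem_and_subset (X := T.left) (U := T.hom ⁻¹ᵁ S₀) (x := t) htS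
    obtain ⟨X₀, u, k, hX₀, hu, hk, sqV⟩ := exists_open_piece hX' hi V
    let TV : Over S := Over.mk (V.ι ≫ T.hom)
    have : IsAffine TV.left := hV
    have hk' := Groth.AlgSp2.isHomeomorph_map_of_isThickMor hk
    have : CompactSpace ↥TV.left := inferInstance
    have : CompactSpace (Points ((yon S).obj TV)) := (Points.schemeHomeo TV).compactSpace
    have : CompactSpace (Points X₀) := (IsHomeomorph.homeomorph _ hk').compactSpace
    obtain ⟨U', p, hU', he, hs⟩ := exists_affine_chart_of_compactSpace hX₀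
    obtain ⟨U, jU, uU, sq⟩ := exists_pullback_yon he.rep k
    obtain ⟨R, tt, s, sqR⟩ := exists_pullback_yon he.rep p
    have hjU : MoreMor.IsThickening jU.left := hk.property p _ jU sq.flip
    have : IsAffine U.left := by have := hjU.1; exact isAffine_of_isAffineHom jU.left
    obtain ⟨R₂, jR, lam, pr, hR₂, hjR, hjt, hjs, sq₂⟩ := exists_kernelPair_thick hjU sq sqR
    have : IsAffine R.left := by
      have := hjR.1
      have := hjR.2
      exact FlatMor2.isAffine_of_surjective_closedImmersion jR.left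
    let D : Datum S := ⟨X₀, hX₀, TV, U', U, R, R₂, ‹_›, ‹_›, ‹_›, ‹_›, k, hk, p, he, hs, jU, uU, hjU, sq,
      tt, s, sqR, jR, lam, pr, hjR, hjt, hjs, sq₂⟩
    have hU : Set.range D.U'.hom ⊆ (S₀ : Set ↥S) := by
      rintro _ ⟨y, rfl⟩
      obtain ⟨v, rfl⟩ := hjU.2.surj y
      rw [show U'.hom (jU.left v) = TV.hom (uU.left v) from
        (congrArg (fun f : U.left ⟶ S => f v) (Over.w jU)).trans
          (congrArg (fun f : U.left ⟶ S => f v) (Over.w uU)).symm]
      exact hVS (uU.left v).2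
    have hz : (⟨t, htV⟩ : ↥TV.left) ∈ D.Omega := by
      rw [D.omega_eq_univ hS₀ hU]; trivial
    obtain ⟨G, a, ha, g, hg⟩ := hz
    refine ⟨G, a ≫ u, repWith_comp ha hu, g, ?_⟩
    have e : Points.ofPt (a ≫ u) g = Points.ofPt ((yon S).map (Over.homMk V.ι rfl : TV ⟶ T) ≫ i) ⟨t, htV⟩ := by
      rw [← Points.map_ofPt, hg, Points.map_ofPt, sqV.w]
    rw [e, ofPt_comp_yon]
    exact ofPt_eq_map _ _
  choose G a ha hmem using fun t : ↥T.left => hcov (Points.ofPt i t)
  refine exists_iso_yon_of_openImmersions (f := a) ha fun W g w => ?_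
  obtain ⟨x₀, hx₀⟩ := (Groth.AlgSp2.isHomeomorph_map_of_isThickMor hi).surjective (Points.ofPt g w)
  obtain ⟨t, rfl⟩ := (Points.schemeEquiv T).surjective x₀
  obtain ⟨V, fst, snd, sq⟩ := exists_pullback_yon (ha t).rep g
  obtain ⟨g₀, hg₀⟩ := hmem t
  obtain ⟨v, -, hv⟩ := (ofPt_eq_ofPt_iff sq g₀ w).1 (hg₀.trans ((ofPt_eq_map i t).trans hx₀))
  exact ⟨t, V, _, snd, sq, v, hv⟩

end Groth.AlgSpThick
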