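import Groth.Agent.AlgSpThick.Scheme
import Groth.Agent.AlgSpEt.UnivHomeo
import Groth.Prelude.Def_AlgSpOX2

/-!
# The small etale site of a thickening
-/

set_option autoImplicit false
set_option backward.isDefEq.respectTransparency false

universe u

open CategoryTheory CategoryTheory.Limits AlgebraicGeometry Opposite AlgSp Groth.AlgSpBasic

namespace Groth.AlgSpThick

variable {S : Scheme.{u}} {X Y : Sp S} {i : X ⟶ Y}

theorem isUH_of_thick (hi : IsThickMor i) : Groth.AlgSpEt.UH.IsUH i where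
  int := repWith_mono (fun _ _ g (hg : thick g) => (isIntegralHom_univInj_of_thick hg).1) hi
  uinj := repWith_mono (fun _ _ g (hg : thick g) => (isIntegralHom_univInj_of_thick hg).2) hi
  surj := repWith_mono (fun _ _ g (hg : thick g) => hg.2) hi

theorem isEtaleMor_hom (_hY : IsAlgSpace Y) (E : EtOver Y) : IsEtaleMor E.obj.hom :=
  isEtaleMor_of_repWith _ E.property

theorem bc_faithful (hi : IsThickMor i) (hY : IsAlgSpace Y) : (EtOver.bc hi.1).Faithful where
  map_injective {E E'} g g' h := by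
    obtain ⟨φ', -, huniq⟩ := Groth.AlgSpEt.UH.existsUnique_hom (isUH_of_thick hi) hY (IsAlgSpace.yon_obj _)
      (IsAlgSpace.yon_obj _) (isEtaleMor_hom hY E') (EtOver.isPullback_bcObj hi.1 E)
      (EtOver.isPullback_bcObj hi.1 E') ((yon S).map (EtOver.bcMap hi.1 g).hom.left)
      (EtOver.w (EtOver.bcMap hi.1 g))
    have key : ∀ k : E ⟶ E', EtOver.bcMap hi.1 k = EtOver.bcMap hi.1 g →
        (yon S).map k.hom.left = φ' := fun k hk => huniq _ ⟨EtOver.w k, by
      rw [← hk, ← Functor.map_comp, ← Functor.map_comp, EtOver.bcMap_snd]⟩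
    exact EtOver.hom_ext _ _ ((yon S).map_injective ((key g rfl).trans (key g' h.symm).symm))

theorem bc_full (hi : IsThickMor i) (hY : IsAlgSpace Y) : (EtOver.bc hi.1).Full where
  map_surjective {E E'} k := by
    obtain ⟨φ', ⟨h₁, h₂⟩, -⟩ := Groth.AlgSpEt.UH.existsUnique_hom (isUH_of_thick hi) hY (IsAlgSpace.yon_obj _)
      (IsAlgSpace.yon_obj _) (isEtaleMor_hom hY E') (EtOver.isPullback_bcObj hi.1 E)
      (EtOver.isPullback_bcObj hi.1 E') ((yon S).map k.hom.left) (EtOver.w k)
    obtain ⟨g, rfl⟩ := (yon S).map_surjective φ'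
    refine ⟨EtOver.homMk g h₁, EtOver.hom_ext _ _ ((yon S).map_injective ?_)⟩
    refine (EtOver.isPullback_bcObj hi.1 E').hom_ext ?_ ?_
    · exact (EtOver.w (EtOver.bcMap hi.1 (EtOver.homMk g h₁))).trans (EtOver.w k).symm
    · rw [← h₂, ← Functor.map_comp, ← Functor.map_comp, EtOver.bc_map, EtOver.bcMap_snd]
      rfl

theorem bc_essSurj (hi : IsThickMor i) (hX : IsAlgSpace X) (hY : IsAlgSpace Y) :
    (EtOver.bc hi.1).EssSurj where
  mem_essImage E := by
    obtain ⟨V', a, c, hV', ha, sq⟩ := Groth.AlgSpEt.UH.exists_descend (isUH_of_thick hi) hY hX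
      (IsAlgSpace.yon_obj E.obj.left) (isEtaleMor_of_repWith _ E.property)
    obtain ⟨T', ⟨e⟩⟩ := exists_iso_yon_of_thick hV' (i := c) (repWith_of_isPullback sq hi)
    let E' : EtOver Y := EtOver.mk (e.hom ≫ a) (ha e.hom (repWith_isIso e.hom))
    have sq' : IsPullback E.obj.hom (c ≫ e.inv) i E'.obj.hom :=
      sq.of_iso (Iso.refl _) (Iso.refl _) e.symm (Iso.refl _) (by simp) (by simp) (by simp) (by simp [E'])
    let φ := (EtOver.isPullback_bcObj hi.1 E').isoIsPullback _ _ sq'
    exact ⟨E', ⟨(ObjectProperty.fullyFaithfulι _).preimageIso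
      (CostructuredArrow.isoMk ((yon S).preimageIso φ) (by
        rw [Functor.preimageIso_hom, Functor.map_preimage]
        exact IsPullback.isoIsPullback_hom_fst _ _ _ _))⟩⟩

end Groth.AlgSpThick
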