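import Mathlib.RingTheory.Noetherian.Basic
import Mathlib.RingTheory.FiniteType
import Mathlib.RingTheory.IntegralClosure.IsIntegralClosure.Basic
import Mathlib.RingTheory.Localization.Away.Basic
import Mathlib.RingTheory.Localization.Integer
import Mathlib.RingTheory.Nilpotent.Lemmas

/-!
# Lifting functions through a nil thickening of a groupoid

`s, t : E →+* C` are the two restrictions from a chart to its self-product, `q : E →+* B` the reduction.
Functions on the reduced quotient lift to invariant functions after multiplying by a function whose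
non-vanishing locus already has affine thickening, with a uniform exponent on finitely generated subrings.
-/

set_option autoImplicit false

namespace Groth.AlgSpThick

universe u

open Polynomial

variable {E C B : Type u} [CommRing E] [CommRing C] [CommRing B]

/-- If `η` is killed by a power of `u` and `u - v` is nilpotent, it is killed by a power of `v`. -/
theorem exists_pow_mul_eq_zero_of_isNilpotent_sub {η u v : C} {m : ℕ} (h : u ^ m * η = 0)
    (huv : IsNilpotent (u - v)) : ∃ j : ℕ, v ^ j * η = 0 := by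
  have : IsNilpotent (u ^ m - v ^ m) := by
    obtain ⟨d, hd⟩ := sub_dvd_pow_sub_pow u v m
    rw [hd]
    exact (Commute.all _ _).isNilpotent_mul_right huv
  obtain ⟨k, hk⟩ := this
  refine ⟨m * k, ?_⟩
  have h' : (u ^ m - v ^ m) ^ k * η = (-v ^ m) ^ k * η := by
    obtain ⟨d, hd⟩ := sub_dvd_pow_sub_pow (u ^ m - v ^ m) (-v ^ m) k
    have : (u ^ m - v ^ m) ^ k * η - (-v ^ m) ^ k * η = 0 := by
      rw [← sub_mul, hd, mul_comm _ d, mul_assoc, show u ^ m - v ^ m - -v ^ m = u ^ m by ring, h, mul_zero]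
    exact sub_eq_zero.1 this
  rw [hk, zero_mul] at h'
  rcases neg_one_pow_eq_or C k with e | e <;>
    · rw [neg_pow, e] at h'
      rw [pow_mul]
      simpa using h'.symm

/-- An invariant function lifting a power, from a function that is invariant after inverting it. -/
theorem exists_invariant_lift_pow (s t : E →+* C) (q : E →+* B) (hq : ∀ e, q e = 0 → IsNilpotent e)
    (b x : E) (n m : ℕ) (hx : q x = q b ^ (n + 1)) (hb : IsNilpotent (s b - t b))
    (h : s b ^ m * (s x * t b ^ n - t x * s b ^ n) = 0) :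
    ∃ (N : ℕ) (c : E), 0 < N ∧ s c = t c ∧ q c = q b ^ N := by
  obtain ⟨k, hk⟩ := hq (x - b ^ (n + 1)) (by rw [map_sub, map_pow, hx, sub_self])
  let ν := x - b ^ (n + 1)
  let N := (n + 1) * (k + 1)
  let β : E := ∑ i ∈ Finset.range (k + 1), ν ^ i * b ^ ((n + 1) * (N - i) - n * N) * N.choose i
  have hxN : x ^ N = β * b ^ (n * N) := by
    rw [show x = ν + b ^ (n + 1) by simp [ν], add_pow, Finset.sum_mul]
    rw [← Finset.sum_subset (s₁ := Finset.range (k + 1)) (by
      intro i hi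
      simp only [Finset.mem_range] at hi ⊢
      have : k + 1 ≤ N := Nat.le_mul_of_pos_left _ (Nat.succ_pos n)
      omega) (fun i _ hi => by
        simp only [Finset.mem_range, not_lt] at hi
        rw [pow_eq_zero_of_le (by omega) hk, zero_mul, zero_mul])]
    refine Finset.sum_congr rfl fun i hi => ?_
    simp only [Finset.mem_range] at hi
    obtain ⟨j, hj⟩ : ∃ j, (n + 1) * (N - i) = n * N + j := Nat.exists_eq_add_of_le <| by
      have e1 : (n + 1) * (N - i) + (n + 1) * i = (n + 1) * N := by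
        rw [← Nat.mul_add, Nat.sub_add_cancel]
        have : k + 1 ≤ N := Nat.le_mul_of_pos_left _ (Nat.succ_pos n)
        omega
      have e2 : (n + 1) * i ≤ (n + 1) * (k + 1) := Nat.mul_le_mul_left _ (by omega)
      have e3 : (n + 1) * N = n * N + N := Nat.succ_mul n N
      generalize (n + 1) * i = a at e1 e2
      generalize (n + 1) * (N - i) = a' at e1 ⊢
      generalize (n + 1) * N = a'' at e1 e3
      show n * N ≤ a'
      omega
    rw [← pow_mul, hj, Nat.add_sub_cancel_left, pow_add]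
    ring
  have hβq : q β = q b ^ N := by
    have hν : q ν = 0 := by simp [ν, hx]
    simp only [β, map_sum, map_mul, map_pow, map_natCast, hν]
    rw [Finset.sum_eq_single 0]
    · simp only [pow_zero, one_mul, Nat.choose_zero_right, Nat.cast_one, mul_one, Nat.sub_zero]
      congr 1
      rw [Nat.succ_mul]; omega
    · intro i _ hi; simp [zero_pow hi]
    · simp
  have hN : 0 < N := by positivity
  -- the two images of β agree up to torsion
  obtain ⟨j, hj⟩ : ∃ j, s b ^ j * (s β - t β) = 0 := by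
    have h1 : s b ^ m * ((s x * t b ^ n) ^ N - (t x * s b ^ n) ^ N) = 0 := by
      obtain ⟨d, hd⟩ := sub_dvd_pow_sub_pow (s x * t b ^ n) (t x * s b ^ n) N
      rw [hd, ← mul_assoc, h, zero_mul]
    rw [mul_pow, mul_pow, ← map_pow s x, ← map_pow t x, hxN] at h1
    simp only [map_mul, map_pow, ← pow_mul] at h1
    have h2 : t b ^ (n * N) * (s b ^ (m + n * N) * (s β - t β)) = 0 := by
      rw [← h1]; ring
    obtain ⟨j, hj⟩ := exists_pow_mul_eq_zero_of_isNilpotent_sub h2 (v := s b) (by simpa using hb.neg)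
    exact ⟨j + (m + n * N), by rw [pow_add, mul_assoc]; exact hj⟩
  -- hence killed by powers of both images of β
  have hnil : IsNilpotent (β - b ^ N) := hq _ (by rw [map_sub, map_pow, hβq, sub_self])
  have hjN : (s b ^ N) ^ j * (s β - t β) = 0 := by
    obtain ⟨N', hN'⟩ : ∃ N', N * j = N' + j := ⟨N * j - j, by
      have := Nat.le_mul_of_pos_left j hN; omega⟩
    rw [← pow_mul, hN', pow_add, mul_assoc, hj, mul_zero]
  obtain ⟨j₁, hj₁⟩ := exists_pow_mul_eq_zero_of_isNilpotent_sub hjN (v := s β) (by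
    have := hnil.map s
    rw [map_sub, map_pow] at this
    simpa using this.neg)
  obtain ⟨j', hj'⟩ : ∃ j', t b ^ j' * (s β - t β) = 0 :=
    exists_pow_mul_eq_zero_of_isNilpotent_sub hj hb
  have hjN' : (t b ^ N) ^ j' * (s β - t β) = 0 := by
    obtain ⟨N', hN'⟩ : ∃ N', N * j' = N' + j' := ⟨N * j' - j', by
      have := Nat.le_mul_of_pos_left j' hN; omega⟩
    rw [← pow_mul, hN', pow_add, mul_assoc, hj', mul_zero]
  obtain ⟨j₂, hj₂⟩ := exists_pow_mul_eq_zero_of_isNilpotent_sub hjN' (v := t β) (by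
    have := hnil.map t
    rw [map_sub, map_pow] at this
    simpa using this.neg)
  refine ⟨N * (j₁ + j₂ + 1), β ^ (j₁ + j₂ + 1), by positivity, sub_eq_zero.1 ?_,
    by rw [map_pow, hβq, ← pow_mul]⟩
  rw [map_pow, map_pow, ← geom_sum₂_mul, Finset.sum_mul]
  refine Finset.sum_eq_zero fun i hi => ?_
  simp only [Finset.mem_range] at hi
  by_cases hi' : j₁ ≤ i
  · obtain ⟨i', rfl⟩ := Nat.exists_eq_add_of_le hi'
    calc s β ^ (j₁ + i') * t β ^ (j₁ + j₂ + 1 - 1 - (j₁ + i')) * (s β - t β)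
        = s β ^ i' * t β ^ (j₁ + j₂ + 1 - 1 - (j₁ + i')) * (s β ^ j₁ * (s β - t β)) := by rw [pow_add]; ring
      _ = 0 := by rw [hj₁, mul_zero]
  · obtain ⟨i', hi''⟩ := Nat.exists_eq_add_of_le (show j₂ ≤ j₁ + j₂ + 1 - 1 - i by omega)
    calc s β ^ i * t β ^ (j₁ + j₂ + 1 - 1 - i) * (s β - t β)
        = s β ^ i * t β ^ i' * (t β ^ j₂ * (s β - t β)) := by rw [hi'', pow_add]; ring
      _ = 0 := by rw [hj₂, mul_zero]

/-- In a Noetherian ring the elements killed by some power of `c` are killed by one power. -/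
theorem exists_uniform_torsion {R : Type u} [CommRing R] [IsNoetherianRing R] (c : R) :
    ∃ K : ℕ, ∀ z : R, ∀ j : ℕ, c ^ j * z = 0 → c ^ K * z = 0 := by
  let f : ℕ →o Submodule R R :=
    ⟨fun j => LinearMap.ker (LinearMap.mulLeft R (c ^ j)), fun i j hij z hz => by
      obtain ⟨d, rfl⟩ := Nat.exists_eq_add_of_le hij
      simp only [LinearMap.mem_ker, LinearMap.mulLeft_apply] at hz ⊢
      rw [pow_add, mul_right_comm, hz, zero_mul]⟩
  obtain ⟨K, hK⟩ := monotone_stabilizes_iff_noetherian.2 ‹IsNoetherianRing R› f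
  refine ⟨K, fun z j hz => ?_⟩
  have hz' : z ∈ f (max j K) := f.monotone (le_max_left _ _) (by simpa [f] using hz)
  rw [← hK _ (le_max_right _ _)] at hz'
  simpa [f] using hz'

set_option maxHeartbeats 1000000 in
/-- Elements `q aᵢ` which lift to invariant functions up to powers of an invariant `c` do so
with one exponent on the subring they generate. -/
theorem exists_uniform_lift (s t : E →+* C) (q : E →+* B) (hq : ∀ e, q e = 0 → IsNilpotent e)
    (c : E) (hc : s c = t c) {ι : Type u} [Finite ι] (b x : ι → E) (n : ι → ℕ)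
    (hx : ∀ i, q (x i) = q (b i) * q c ^ n i) (hm : ∀ i, ∃ m : ℕ, s c ^ m * (s (x i) - t (x i)) = 0) :
    ∃ K : ℕ, ∀ a ∈ Subring.closure (Set.range fun i => q (b i)),
      ∃ p : E, s p = t p ∧ q p = q c ^ K * a := by
  classical
  have := Fintype.ofFinite ι
  let E₀ := Algebra.adjoin ℤ (insert c (Set.range b ∪ Set.range x))
  have hfin : (insert c (Set.range b ∪ Set.range x)).Finite :=
    ((Set.finite_range b).union (Set.finite_range x)).insert c
  have : Algebra.FiniteType ℤ E₀ := ⟨E₀.fg_top.2 ⟨hfin.toFinset, by simp [E₀]⟩⟩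
  have : IsNoetherianRing E₀ := Algebra.FiniteType.isNoetherianRing ℤ E₀
  let c₀ : E₀ := ⟨c, Algebra.subset_adjoin (Set.mem_insert _ _)⟩
  let b₀ : ι → E₀ := fun i => ⟨b i, Algebra.subset_adjoin (Or.inr (Or.inl ⟨i, rfl⟩))⟩
  let x₀ : ι → E₀ := fun i => ⟨x i, Algebra.subset_adjoin (Or.inr (Or.inr ⟨i, rfl⟩))⟩
  let L := Localization.Away c₀
  let d : ι → L := fun i => IsLocalization.mk' L (x₀ i) (⟨c₀ ^ n i, n i, rfl⟩ : Submonoid.powers c₀)
  -- the elements `x / c ^ n` generate a finite module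
  have hint : ∀ i, IsIntegral E₀ (d i) := fun i => by
    obtain ⟨k, hk⟩ := hq (x i - b i * c ^ n i) (by rw [map_sub, map_mul, map_pow, hx, sub_self])
    refine ⟨(X - Polynomial.C (b₀ i)) ^ k, (monic_X_sub_C _).pow k, ?_⟩
    have e : d i - algebraMap E₀ L (b₀ i) =
        IsLocalization.mk' L (x₀ i - b₀ i * c₀ ^ n i) (⟨c₀ ^ n i, n i, rfl⟩ : Submonoid.powers c₀) := by
      rw [IsLocalization.eq_mk'_iff_mul_eq, sub_mul, IsLocalization.mk'_spec, ← map_mul, ← map_sub]
    rw [eval₂_pow, eval₂_sub, eval₂_X, eval₂_C, e]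
    rcases k with _ | k
    · simp only [pow_zero] at hk ⊢
      have : Subsingleton E := subsingleton_of_zero_eq_one hk.symm
      have : Subsingleton L := subsingleton_of_zero_eq_one
        (by rw [← map_zero (algebraMap E₀ L), ← map_one (algebraMap E₀ L)]
            exact congrArg _ (Subsingleton.elim _ _))
      exact Subsingleton.elim _ _
    · rw [← IsLocalization.mk'_pow, show (x₀ i - b₀ i * c₀ ^ n i) ^ (k + 1) = 0 from Subtype.ext hk,
        IsLocalization.mk'_zero]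
  obtain ⟨S, hS⟩ := fg_adjoin_of_finite (Set.finite_range d) (by rintro _ ⟨i, rfl⟩; exact hint i)
  obtain ⟨⟨_, l, rfl⟩, hl⟩ := IsLocalization.exist_integer_multiples_of_finset (Submonoid.powers c₀) S
  have hY : ∀ y ∈ Algebra.adjoin E₀ (Set.range d), ∃ β : E₀, algebraMap E₀ L β = c₀ ^ l • y := by
    intro y hy
    have hy' : y ∈ Submodule.span E₀ (S : Set L) := hS.symm ▸ hy
    refine Submodule.span_induction (fun z hz => hl z hz) ⟨0, by simp⟩ ?_ ?_ hy'
    · rintro z w - - ⟨β, hβ⟩ ⟨γ, hγ⟩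
      exact ⟨β + γ, by rw [map_add, hβ, hγ, smul_add]⟩
    · rintro r z - ⟨β, hβ⟩
      exact ⟨r * β, by simp only [map_mul, hβ, Algebra.smul_def]; ring⟩
  -- Noetherian rings receiving the two restrictions and the reduction
  let C₀ := Algebra.adjoin ℤ (s '' insert c (Set.range b ∪ Set.range x) ∪ t '' insert c (Set.range b ∪ Set.range x))
  have : Algebra.FiniteType ℤ C₀ :=
    ⟨C₀.fg_top.2 ⟨((hfin.image s).union (hfin.image t)).toFinset, by rw [Set.Finite.coe_toFinset]⟩⟩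
  have : IsNoetherianRing C₀ := Algebra.FiniteType.isNoetherianRing ℤ C₀
  let B₀ := Algebra.adjoin ℤ (q '' insert c (Set.range b ∪ Set.range x))
  have : Algebra.FiniteType ℤ B₀ := ⟨B₀.fg_top.2 ⟨(hfin.image q).toFinset, by rw [Set.Finite.coe_toFinset]⟩⟩
  have : IsNoetherianRing B₀ := Algebra.FiniteType.isNoetherianRing ℤ B₀
  have hmapC : ∀ e : E₀, s e ∈ C₀ ∧ t e ∈ C₀ := fun e =>
    ⟨(Algebra.adjoin_mono Set.subset_union_left) ((s.toIntAlgHom.map_adjoin _).le ⟨e.1, e.2, rfl⟩),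
      (Algebra.adjoin_mono Set.subset_union_right) ((t.toIntAlgHom.map_adjoin _).le ⟨e.1, e.2, rfl⟩)⟩
  have hmapB : ∀ e : E₀, q e ∈ B₀ := fun e => (q.toIntAlgHom.map_adjoin _).le ⟨e.1, e.2, rfl⟩
  let s₀ : E₀ →+* C₀ := (s.comp (algebraMap E₀ E)).codRestrict C₀ fun e => (hmapC e).1
  let t₀ : E₀ →+* C₀ := (t.comp (algebraMap E₀ E)).codRestrict C₀ fun e => (hmapC e).2
  let q₀ : E₀ →+* B₀ := (q.comp (algebraMap E₀ E)).codRestrict B₀ hmapB
  obtain ⟨K₁, hK₁⟩ := exists_uniform_torsion (s₀ c₀)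
  obtain ⟨K₂, hK₂⟩ := exists_uniform_torsion (q₀ c₀)
  refine ⟨K₁ + K₂ + l, fun a ha => ?_⟩
  -- localised restrictions
  let LC := Localization.Away (s₀ c₀)
  let LB := Localization.Away (q₀ c₀)
  have hct : t₀ c₀ = s₀ c₀ := Subtype.ext hc.symm
  let sL : L →+* LC := IsLocalization.Away.lift c₀ (g := (algebraMap C₀ LC).comp s₀)
    (IsLocalization.Away.algebraMap_isUnit (s₀ c₀))
  let tL : L →+* LC := IsLocalization.Away.lift c₀ (g := (algebraMap C₀ LC).comp t₀)
    (by show IsUnit (algebraMap C₀ LC (t₀ c₀)); rw [hct]; exact IsLocalization.Away.algebraMap_isUnit (s₀ c₀))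
  let qL : L →+* LB := IsLocalization.Away.lift c₀ (g := (algebraMap B₀ LB).comp q₀)
    (IsLocalization.Away.algebraMap_isUnit (q₀ c₀))
  have hsL : ∀ z, sL (algebraMap E₀ L z) = algebraMap C₀ LC (s₀ z) := fun z =>
    IsLocalization.Away.lift_eq _ _ z
  have htL : ∀ z, tL (algebraMap E₀ L z) = algebraMap C₀ LC (t₀ z) := fun z =>
    IsLocalization.Away.lift_eq _ _ z
  have hqL : ∀ z, qL (algebraMap E₀ L z) = algebraMap B₀ LB (q₀ z) := fun z =>
    IsLocalization.Away.lift_eq _ _ z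
  have hsd : ∀ i, sL (d i) = tL (d i) := fun i => by
    obtain ⟨m, hm⟩ := hm i
    refine (IsLocalization.map_units LC (⟨s₀ c₀ ^ n i, n i, rfl⟩ : Submonoid.powers (s₀ c₀))).mul_right_cancel ?_
    have e₁ : sL (d i) * algebraMap C₀ LC (s₀ c₀ ^ n i) = algebraMap C₀ LC (s₀ (x₀ i)) := by
      rw [← map_pow s₀, ← hsL, ← map_mul,
        IsLocalization.mk'_spec L (x₀ i) (⟨c₀ ^ n i, n i, rfl⟩ : Submonoid.powers c₀), hsL]
    have e₂ : tL (d i) * algebraMap C₀ LC (s₀ c₀ ^ n i) = algebraMap C₀ LC (t₀ (x₀ i)) := by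
      rw [show s₀ c₀ ^ n i = t₀ (c₀ ^ n i) by rw [map_pow, hct], ← htL, ← map_mul,
        IsLocalization.mk'_spec L (x₀ i) (⟨c₀ ^ n i, n i, rfl⟩ : Submonoid.powers c₀), htL]
    show sL (d i) * algebraMap C₀ LC (s₀ c₀ ^ n i) = tL (d i) * algebraMap C₀ LC (s₀ c₀ ^ n i)
    rw [e₁, e₂]
    refine (IsLocalization.eq_iff_exists (Submonoid.powers (s₀ c₀)) LC).2 ⟨⟨_, m, rfl⟩, Subtype.ext ?_⟩
    have hm' : s c ^ m * s (x i) = s c ^ m * t (x i) := sub_eq_zero.1 (by rw [← mul_sub]; exact hm)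
    exact hm'
  obtain ⟨y, hy, hya⟩ : ∃ y ∈ Algebra.adjoin E₀ (Set.range d),
      sL y = tL y ∧ ∃ a₀ : B₀, (a₀ : B) = a ∧ qL y = algebraMap B₀ LB a₀ := by
    refine Subring.closure_induction
      (p := fun a _ => ∃ y ∈ Algebra.adjoin E₀ (Set.range d),
        sL y = tL y ∧ ∃ a₀ : B₀, (a₀ : B) = a ∧ qL y = algebraMap B₀ LB a₀) ?_ ?_ ?_ ?_ ?_ ?_ ha
    · rintro _ ⟨i, rfl⟩
      refine ⟨d i, Algebra.subset_adjoin ⟨i, rfl⟩, hsd i, q₀ (b₀ i), rfl, ?_⟩
      refine (IsLocalization.map_units LB (⟨q₀ c₀ ^ n i, n i, rfl⟩ : Submonoid.powers (q₀ c₀))).mul_right_cancel ?_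
      show qL (d i) * algebraMap B₀ LB (q₀ c₀ ^ n i) = algebraMap B₀ LB (q₀ (b₀ i)) * algebraMap B₀ LB (q₀ c₀ ^ n i)
      rw [← map_mul, ← map_pow q₀, ← map_mul q₀, ← hqL, ← map_mul,
        IsLocalization.mk'_spec L (x₀ i) (⟨c₀ ^ n i, n i, rfl⟩ : Submonoid.powers c₀), hqL]
      refine congrArg _ (Subtype.ext ?_)
      show q (x i) = q (b i * c ^ n i)
      rw [hx, map_mul, map_pow]
    · exact ⟨0, zero_mem _, by simp, 0, rfl, by simp⟩
    · exact ⟨1, one_mem _, by simp, 1, rfl, by simp⟩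
    · rintro a a' - - ⟨y, hy, e, a₀, rfl, f⟩ ⟨y', hy', e', a₀', rfl, f'⟩
      exact ⟨y + y', add_mem hy hy', by rw [map_add, map_add, e, e'], a₀ + a₀', rfl, by rw [map_add, map_add, f, f']⟩
    · rintro a - ⟨y, hy, e, a₀, rfl, f⟩
      exact ⟨-y, neg_mem hy, by rw [map_neg, map_neg, e], -a₀, rfl, by rw [map_neg, map_neg, f]⟩
    · rintro a a' - - ⟨y, hy, e, a₀, rfl, f⟩ ⟨y', hy', e', a₀', rfl, f'⟩
      exact ⟨y * y', mul_mem hy hy', by rw [map_mul, map_mul, e, e'], a₀ * a₀', rfl, by rw [map_mul, map_mul, f, f']⟩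
  obtain ⟨β, hβ⟩ := hY y hy
  obtain ⟨hye, a₀, rfl, hyq⟩ := hya
  rw [Algebra.smul_def] at hβ
  have h₁ : algebraMap C₀ LC (s₀ β) = algebraMap C₀ LC (t₀ β) := by
    have := congrArg sL hβ
    have ht := congrArg tL hβ
    rw [map_mul, hsL β, hsL (c₀ ^ l)] at this
    have htc : t₀ (c₀ ^ l) = s₀ (c₀ ^ l) := by rw [map_pow, map_pow, hct]
    rw [map_mul, htL β, htL (c₀ ^ l), congrArg (algebraMap C₀ LC) htc, ← hye] at ht
    exact this.trans ht.symm
  have h₂ : algebraMap B₀ LB (q₀ β) = algebraMap B₀ LB (q₀ (c₀ ^ l) * a₀) := by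
    have := congrArg qL hβ
    rw [map_mul, hyq, hqL, hqL, ← map_mul] at this
    exact this
  obtain ⟨⟨_, j₁, rfl⟩, hj₁⟩ := (IsLocalization.eq_iff_exists (Submonoid.powers (s₀ c₀)) LC).1 h₁
  obtain ⟨⟨_, j₂, rfl⟩, hj₂⟩ := (IsLocalization.eq_iff_exists (Submonoid.powers (q₀ c₀)) LB).1 h₂
  have g₁ := congrArg Subtype.val (hK₁ (s₀ β - t₀ β) j₁ (by rw [mul_sub, sub_eq_zero]; exact hj₁))
  have g₂ := congrArg Subtype.val (hK₂ (q₀ β - q₀ (c₀ ^ l) * a₀) j₂ (by rw [mul_sub, sub_eq_zero]; exact hj₂))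
  refine ⟨c ^ (K₁ + K₂) * (β : E), ?_, ?_⟩
  · have g : s c ^ K₁ * (s β - t β) = 0 := g₁
    have g' : s c ^ K₁ * s β = s c ^ K₁ * t β := sub_eq_zero.1 (by rw [← mul_sub]; exact g)
    rw [map_mul, map_mul, map_pow, map_pow, ← hc, pow_add, mul_comm (s c ^ K₁), mul_assoc, mul_assoc, g']
  · have g : q c ^ K₂ * (q β - q (c ^ l) * a₀) = 0 := g₂
    have g' : q c ^ K₂ * q β = q c ^ K₂ * (q (c ^ l) * a₀) := sub_eq_zero.1 (by rw [← mul_sub]; exact g)
    rw [map_mul, map_pow, pow_add, mul_assoc, g', map_pow]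
    ring

end Groth.AlgSpThick
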