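import Mathlib.RingTheory.Henselian
import Mathlib.RingTheory.Ideal.Operations
import Mathlib.Algebra.Polynomial.Taylor
import Mathlib.Algebra.Polynomial.Identities
import Mathlib.Algebra.Polynomial.Lifts
import Mathlib.RingTheory.Polynomial.Basic
import Mathlib.RingTheory.Finiteness.Ideal

/-!
# Henselian pairs along maps which are surjective up to bounded torsion

If `f : R →+* T` hits, after multiplying by a fixed power of the generators of `I`, every element
of each finitely generated subalgebra, and `(R, I)` is henselian, then so is `(T, I T)`.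
-/

set_option autoImplicit false

namespace Groth.AlgSpThick

universe u

open Polynomial

variable {R T : Type u} [CommRing R] [CommRing T]

private theorem isUnit_one_add_of_pow_map_le (f : R →+* T) (I : Ideal R) (hI : I ≤ Ideal.jacobson ⊥)
    {L : ℕ} (hL : ∀ y ∈ (I ^ L).map f, ∃ x ∈ I, f x = y) {z : T} (hz : z ∈ I.map f) :
    IsUnit (1 + z) := by
  obtain ⟨x, hx, hxe⟩ := hL ((-z) ^ L) (by rw [Ideal.map_pow]; exact Ideal.pow_mem_pow (neg_mem hz) L)
  have hu : IsUnit (1 - (-z) ^ L) := by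
    rw [← hxe, ← map_one f, ← map_sub]
    refine IsUnit.map f ?_
    simpa [sub_eq_neg_add] using Ideal.mem_jacobson_bot.1 (hI hx) (-1)
  refine isUnit_of_dvd_unit ?_ hu
  simpa [sub_neg_eq_add] using sub_dvd_pow_sub_pow (1 : T) (-z) L

private theorem exists_root_of_pow_map_le (f : R →+* T) (I : Ideal R) [HenselianRing R I]
    {L : ℕ} (hL : ∀ y ∈ (I ^ L).map f, ∃ x ∈ I, f x = y) (g : T[X]) (a₀ v : T)
    (h₀ : g.eval a₀ ∈ I.map f) (h₁ : g.derivative.eval a₀ * v - 1 ∈ I.map f) :
    ∃ a, g.eval a = 0 ∧ a - a₀ ∈ I.map f := by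
  have happrox : ∀ k : ℕ, ∃ u, u - a₀ ∈ I.map f ∧ g.eval u ∈ (I.map f) ^ (k + 1) := by
    intro k
    induction k with
    | zero => exact ⟨a₀, by simp, by simpa using h₀⟩
    | succ k ih =>
      obtain ⟨u, hu, he⟩ := ih
      have hd : g.derivative.eval u * v - 1 ∈ I.map f := by
        obtain ⟨d, hd⟩ := g.derivative.evalSubFactor u a₀
        have : g.derivative.eval u * v - 1 = (g.derivative.eval a₀ * v - 1) + (u - a₀) * (d * v) := by
          rw [show g.derivative.eval u = g.derivative.eval a₀ + d * (u - a₀) by rw [← hd]; ring]; ring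
        rw [this]
        exact add_mem h₁ (Ideal.mul_mem_right _ _ hu)
      refine ⟨u + -(v * g.eval u), ?_, ?_⟩
      · rw [add_sub_right_comm]
        exact add_mem hu (neg_mem (Ideal.mul_mem_left _ _ (Ideal.pow_le_self (by omega) he)))
      · obtain ⟨q, hq⟩ := g.binomExpansion u (-(v * g.eval u))
        rw [hq, show g.eval u + g.derivative.eval u * -(v * g.eval u) + q * (-(v * g.eval u)) ^ 2 =
          -(g.derivative.eval u * v - 1) * g.eval u + q * v ^ 2 * (g.eval u * g.eval u) by ring]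
        rw [pow_succ']
        exact add_mem (Ideal.mul_mem_mul (neg_mem hd) he)
          (Ideal.mul_mem_left _ _ (Ideal.mul_mem_mul (Ideal.pow_le_self (by omega) he) he))
  obtain ⟨u, hu, he⟩ := happrox L
  have hu₁ : IsUnit (g.derivative.eval u) := by
    obtain ⟨d, hd⟩ := g.derivative.evalSubFactor u a₀
    refine isUnit_of_mul_isUnit_left (y := v) ?_
    rw [show g.derivative.eval u * v = 1 + ((g.derivative.eval a₀ * v - 1) + (u - a₀) * (d * v)) by
      rw [show g.derivative.eval u = g.derivative.eval a₀ + d * (u - a₀) by rw [← hd]; ring]; ring]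
    exact isUnit_one_add_of_pow_map_le f I HenselianRing.jac hL
      (add_mem h₁ (Ideal.mul_mem_right _ _ hu))
  obtain ⟨e₁, he₁⟩ := hu₁
  let G := taylor u g
  let η : T := ↑e₁⁻¹ * g.eval u
  have hη : η ∈ (I ^ L).map f := by
    rw [Ideal.map_pow]
    exact Ideal.mul_mem_left _ _ (Ideal.pow_le_pow_right (by omega) he)
  let n := g.natDegree + 2
  have hd : ∀ k, ∃ x ∈ I, f x = ↑e₁⁻¹ * G.coeff (k + 2) * η ^ (k + 1) := fun k =>
    hL _ (Ideal.mul_mem_left _ _ (Ideal.pow_mem_of_mem _ hη _ (by omega)))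
  choose x hxI hx using hd
  let h : R[X] := X ^ n + X ^ (n - 1) + ∑ k ∈ Finset.range (n - 1), C (x k) * X ^ (n - 2 - k)
  have hh : h.Monic := by
    dsimp only [h]
    rw [add_assoc]
    refine monic_X_pow_add ((degree_add_le _ _).trans_lt (max_lt ?_ ?_))
    · exact (degree_X_pow_le _).trans_lt (by exact_mod_cast (show n - 1 < n by omega))
    · refine (degree_sum_le _ _).trans_lt ((Finset.sup_lt_iff (WithBot.bot_lt_coe n)).2 fun k _ => ?_)
      exact (degree_C_mul_X_pow_le _ _).trans_lt (WithBot.coe_lt_coe.2 (show n - 2 - k < n by omega))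
  have hev : h.eval (-1) ∈ I := by
    have h1 : (-1 : R) ^ n + (-1) ^ (n - 1) = 0 := by
      conv_lhs => rw [show n = n - 1 + 1 by omega, pow_succ]
      simp
    simp only [h, eval_add, eval_pow, eval_X, eval_finsetSum, eval_mul, eval_C, h1, zero_add]
    exact Submodule.sum_mem _ fun k _ => Ideal.mul_mem_right _ _ (hxI k)
  have hder : IsUnit (Ideal.Quotient.mk I (h.derivative.eval (-1))) := by
    simp only [h, derivative_add, derivative_sum, derivative_C_mul, derivative_X_pow, eval_add,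
      eval_finsetSum, eval_mul, eval_C, eval_pow, eval_X, map_add, map_sum, map_mul,
      Ideal.Quotient.eq_zero_iff_mem.2 (hxI _), zero_mul, Finset.sum_const_zero, add_zero, eval_natCast, map_natCast,
      map_pow, map_neg, map_one]
    rw [show n - 1 - 1 = g.natDegree by omega, show n - 1 = g.natDegree + 1 by omega,
      show n = g.natDegree + 2 from rfl, pow_succ]
    have : ((g.natDegree + 2 : ℕ) : R ⧸ I) * ((-1) ^ g.natDegree * -1) +
        ((g.natDegree + 1 : ℕ) : R ⧸ I) * (-1) ^ g.natDegree = -((-1) ^ g.natDegree) := by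
      push_cast; ring
    rw [this]
    exact ((isUnit_one.neg).pow _).neg
  obtain ⟨y, hy, hy'⟩ := HenselianRing.is_henselian h hh (-1) hev hder
  have hyu : IsUnit y := by
    have h2 := Ideal.mem_jacobson_bot.1 (HenselianRing.jac hy') (-1)
    rw [show (y - -1) * -1 + 1 = -y by ring] at h2
    simpa using h2.neg
  obtain ⟨w, hw⟩ := (hyu.map f).exists_left_inv
  -- `u + η / y` is the root
  have hG : ∀ z : T, g.eval (u + η * z) =
      ↑e₁ * η * (1 + z + ∑ k ∈ Finset.range (n - 1), f (x k) * z ^ (k + 2)) := by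
    intro z
    have hdeg : G.natDegree < n - 1 + 2 := by
      rw [natDegree_taylor]; omega
    rw [show g.eval (u + η * z) = G.eval (η * z) by rw [taylor_eval, add_comm],
      eval_eq_sum_range' hdeg, Finset.sum_range_succ', Finset.sum_range_succ', taylor_coeff_zero,
      taylor_coeff_one, ← he₁, mul_add, mul_add, Finset.mul_sum]
    simp only [pow_zero, mul_one, pow_one, zero_add]
    have e0 : g.eval u = ↑e₁ * η := by simp [η]
    rw [e0]
    have : ∀ k, G.coeff (k + 1 + 1) * (η * z) ^ (k + 1 + 1) = ↑e₁ * η * (f (x k) * z ^ (k + 2)) := fun k => by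
      rw [hx k, show k + 1 + 1 = k + 2 from rfl, mul_pow, pow_succ η (k + 1)]
      linear_combination (-(G.coeff (k + 2) * η ^ (k + 1) * η * z ^ (k + 2))) * e₁.mul_inv
    rw [Finset.sum_congr rfl fun k _ => this k]
    ring
  refine ⟨u + η * w, ?_, ?_⟩
  · have key : f y ^ n * (1 + w + ∑ k ∈ Finset.range (n - 1), f (x k) * w ^ (k + 2)) = f (h.eval y) := by
      simp only [h, eval_add, eval_pow, eval_X, eval_finsetSum, eval_mul, eval_C, map_add, map_sum,
        map_mul, map_pow, mul_add, Finset.mul_sum, mul_one]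
      congr 1
      · congr 1
        conv_lhs => rw [show n = n - 1 + 1 by omega, pow_succ, mul_assoc, mul_comm (f y), hw, mul_one]
      · refine Finset.sum_congr rfl fun k hk => ?_
        have hk' := Finset.mem_range.1 hk
        conv_lhs => rw [show n = n - 2 - k + (k + 2) by omega, pow_add]
        have : f y ^ (k + 2) * w ^ (k + 2) = 1 := by rw [← mul_pow, mul_comm, hw, one_pow]
        linear_combination (f y ^ (n - 2 - k) * f (x k)) * this
    rw [hy.eq_zero, map_zero] at key
    rw [hG, ((hyu.map f).pow n).mul_right_eq_zero.1 key, mul_zero]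
  · rw [add_sub_right_comm]
    refine add_mem hu (Ideal.mul_mem_right _ _ ?_)
    exact Ideal.mul_mem_left _ _ (Ideal.pow_le_self (by omega) he)

/-- Henselian pairs transfer along a map which is surjective up to bounded torsion on finitely
generated subalgebras. -/
theorem henselianRing_of_bounded (f : R →+* T) {ι : Type u} [Finite ι] (c : ι → R) (I : Ideal R)
    (hI : I = Ideal.span (Set.range c)) [HenselianRing R I]
    (hb : ∀ F : Finset T, ∃ K : ℕ, ∀ j, ∀ a ∈ Subring.closure (Set.range f ∪ ↑F),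
      f (c j) ^ K * a ∈ Set.range f) :
    HenselianRing T (I.map f) := by
  classical
  have := Fintype.ofFinite ι
  -- on a finitely generated subalgebra a power of `I` lands in the image
  have key : ∀ F : Finset T, ∀ T₀ : Subring T, T₀ = Subring.closure (Set.range f ∪ ↑F) →
      ∀ f₀ : R →+* T₀, (∀ r, (f₀ r : T) = f r) →
        ∃ L, ∀ y ∈ (I ^ L).map f₀, ∃ x ∈ I, f₀ x = y := by
    intro F T₀ hT₀ f₀ hf₀
    obtain ⟨K, hK⟩ := hb F
    obtain ⟨L, hL⟩ := Ideal.exists_pow_le_of_le_radical_of_fg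
      (I := I) (J := Ideal.span (Set.range fun j => c j ^ (K + 1))) (by
        rw [hI]
        exact Ideal.span_le.2 (by
          rintro _ ⟨j, rfl⟩
          exact ⟨K + 1, Ideal.subset_span ⟨j, rfl⟩⟩))
      (hI ▸ Submodule.fg_span (Set.finite_range c))
    refine ⟨L, fun y hy => ?_⟩
    have hy' := Ideal.map_mono (f := f₀) hL hy
    rw [Ideal.map_span, ← Set.range_comp] at hy'
    obtain ⟨a, rfl⟩ := Ideal.mem_span_range_iff_exists_fun.1 hy'
    choose r hr using fun j => hK j (a j) (hT₀ ▸ (a j).2)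
    refine ⟨∑ j, c j * r j, Submodule.sum_mem _ fun j _ =>
      Ideal.mul_mem_right _ _ (hI ▸ Ideal.subset_span ⟨j, rfl⟩), ?_⟩
    rw [map_sum]
    refine Finset.sum_congr rfl fun j _ => Subtype.ext ?_
    simp only [Function.comp_apply, Subring.coe_mul, hf₀, map_mul, hr, map_pow, SubmonoidClass.coe_pow]
    ring
  have hmap : I.map f = Ideal.span (Set.range fun j => f (c j)) := by
    rw [hI, Ideal.map_span, ← Set.range_comp]; rfl
  have hmem : ∀ z ∈ I.map f, ∃ b : ι → T, ∑ j, b j * f (c j) = z := fun z hz => by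
    rw [hmap] at hz; exact Ideal.mem_span_range_iff_exists_fun.1 hz
  constructor
  · intro z hz
    refine Ideal.mem_jacobson_bot.2 fun y => ?_
    obtain ⟨b, hb'⟩ := hmem (z * y) (Ideal.mul_mem_right _ _ hz)
    let F : Finset T := Finset.univ.image b
    let T₀ := Subring.closure (Set.range f ∪ ↑F)
    let f₀ : R →+* T₀ := f.codRestrict T₀ fun r => Subring.subset_closure (Or.inl ⟨r, rfl⟩)
    obtain ⟨L, hL⟩ := key F T₀ rfl f₀ fun _ => rfl
    let b₀ : ι → T₀ := fun j => ⟨b j, Subring.subset_closure (Or.inr (by simp [F]))⟩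
    have := (isUnit_one_add_of_pow_map_le f₀ I HenselianRing.jac hL (z := ∑ j, b₀ j * f₀ (c j))
      (Submodule.sum_mem _ fun j _ => Ideal.mul_mem_left _ _
        (Ideal.mem_map_of_mem _ (hI ▸ Ideal.subset_span ⟨j, rfl⟩)))).map T₀.subtype
    rw [map_add, map_one, map_sum] at this
    rw [add_comm, ← hb']
    exact this
  · intro g hg a₀ h₀ h₁
    obtain ⟨v, hv⟩ := h₁.exists_right_inv
    obtain ⟨v, rfl⟩ := Ideal.Quotient.mk_surjective v
    rw [← map_mul, ← map_one (Ideal.Quotient.mk _), Ideal.Quotient.eq] at hv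
    obtain ⟨b, hb₀⟩ := hmem _ h₀
    obtain ⟨b', hb₁⟩ := hmem _ hv
    let F : Finset T := insert a₀ (insert v (g.coeffs ∪ Finset.univ.image b ∪ Finset.univ.image b'))
    let T₀ := Subring.closure (Set.range f ∪ ↑F)
    have hF : ∀ {t}, t ∈ F → t ∈ T₀ := fun h => Subring.subset_closure (Or.inr h)
    let f₀ : R →+* T₀ := f.codRestrict T₀ fun r => Subring.subset_closure (Or.inl ⟨r, rfl⟩)
    obtain ⟨L, hL⟩ := key F T₀ rfl f₀ fun _ => rfl
    have hsub : (↑g.coeffs : Set T) ⊆ T₀ := fun t ht => hF (by simp [F, Finset.mem_coe.1 ht])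
    obtain ⟨g₀, hg₀⟩ : ∃ g₀ : T₀[X], g₀.map T₀.subtype = g := by
      refine (Polynomial.mem_lifts g).1 ((Polynomial.lifts_iff_coeff_lifts g).2 fun n => ?_)
      by_cases hn : g.coeff n = 0
      · exact ⟨0, by rw [map_zero, hn]⟩
      · exact ⟨⟨_, hsub (Polynomial.coeff_mem_coeffs hn)⟩, rfl⟩
    let a₁ : T₀ := ⟨a₀, hF (by simp [F])⟩
    let v₁ : T₀ := ⟨v, hF (by simp [F])⟩
    have hev : ∀ (p : T₀[X]) (a : T₀), (p.map T₀.subtype).eval (a : T) = p.eval a := fun p a =>
      Polynomial.eval_map_apply T₀.subtype a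
    have m₀ : g₀.eval a₁ ∈ I.map f₀ := by
      have : g₀.eval a₁ = ∑ j, ⟨b j, hF (by simp [F])⟩ * f₀ (c j) := Subtype.ext (by
        rw [← hev, hg₀, ← hb₀, AddSubmonoidClass.coe_finset_sum]; rfl)
      rw [this]
      exact Submodule.sum_mem _ fun j _ => Ideal.mul_mem_left _ _
        (Ideal.mem_map_of_mem _ (hI ▸ Ideal.subset_span ⟨j, rfl⟩))
    have m₁ : g₀.derivative.eval a₁ * v₁ - 1 ∈ I.map f₀ := by
      have : g₀.derivative.eval a₁ * v₁ - 1 = ∑ j, ⟨b' j, hF (by simp [F])⟩ * f₀ (c j) := Subtype.ext (by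
        rw [AddSubgroupClass.coe_sub, Subring.coe_mul, ← hev, ← Polynomial.derivative_map, hg₀,
          Subring.coe_one, ← hb₁, AddSubmonoidClass.coe_finset_sum]; rfl)
      rw [this]
      exact Submodule.sum_mem _ fun j _ => Ideal.mul_mem_left _ _
        (Ideal.mem_map_of_mem _ (hI ▸ Ideal.subset_span ⟨j, rfl⟩))
    obtain ⟨a, ha, ha'⟩ := exists_root_of_pow_map_le f₀ I hL g₀ a₁ v₁ m₀ m₁
    refine ⟨a, ?_, ?_⟩
    · rw [IsRoot.def, ← hg₀, hev, ha]; rfl
    · have := Ideal.mem_map_of_mem T₀.subtype ha'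
      rwa [Ideal.map_map, map_sub] at this

end Groth.AlgSpThick
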