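import Groth.Agent.AlgSpThick.Algebra
import Groth.Agent.AlgSpThick.Henselian
import Mathlib.RingTheory.TensorProduct.Basic
import Mathlib.LinearAlgebra.TensorProduct.Finiteness
import Mathlib.Algebra.Ring.Subring.Basic

/-!
# Base change of invariant functions to a henselization

`P ⊆ E` are the invariant functions of a thickened groupoid and `π : P → A` their restriction to
the reduced quotient. If `π` is surjective after inverting each `cⱼ`, then `A ⊗_P H` is henselian
along the `cⱼ` whenever `H` is.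
-/

set_option autoImplicit false

namespace Groth.AlgSpThick

universe u

open TensorProduct

/-- Surjectivity after inverting `c j` has a uniform exponent on finitely generated subrings. -/
theorem exists_uniform_bound {E C B A : Type u} [CommRing E] [CommRing C] [CommRing B] [CommRing A]
    (s t : E →+* C) (q : E →+* B) (hq : ∀ e, q e = 0 → IsNilpotent e) (hqs : Function.Surjective q)
    (ιA : A →+* B) (hι : Function.Injective ιA) (π : s.eqLocus t →+* A)
    (hπ : ∀ p, ιA (π p) = q p) {ι : Type u} [Finite ι] (c : ι → s.eqLocus t)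
    (hsurj : ∀ j a, ∃ (m : ℕ) (p : s.eqLocus t), π p = π (c j) ^ m * a) (G : Finset A) :
    ∃ K : ℕ, ∀ j, ∀ a ∈ Subring.closure (G : Set A), ∃ p, π p = π (c j) ^ K * a := by
  classical
  have := Fintype.ofFinite ι
  choose m p hp using hsurj
  choose b hb using fun a => hqs (ιA a)
  have := fun j => exists_uniform_lift s t q hq (c j : E) (c j).2 (ι := (G : Set A))
    (fun a => b a.1) (fun a => (p j a.1 : E)) (fun a => m j a.1)
    (fun a => by rw [← hπ, hp, map_mul, map_pow, hb, hπ, mul_comm])
    (fun a => ⟨0, by rw [pow_zero, one_mul, sub_eq_zero]; exact (p j a.1).2⟩)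
  choose K hK using this
  refine ⟨∑ j, K j, fun j a ha => ?_⟩
  have hcl : ιA a ∈ Subring.closure (Set.range fun x : (G : Set A) => q (b x.1)) := by
    have h : ιA a ∈ (Subring.closure (G : Set A)).map ιA := ⟨a, ha, rfl⟩
    rw [RingHom.map_closure] at h
    refine Subring.closure_mono ?_ h
    rintro _ ⟨x, hx, rfl⟩
    exact ⟨⟨x, hx⟩, hb x⟩
  obtain ⟨e, he, hqe⟩ := hK j _ hcl
  obtain ⟨d, hd⟩ := Nat.exists_eq_add_of_le (Finset.single_le_sum (fun i _ => Nat.zero_le (K i))
    (Finset.mem_univ j))
  refine ⟨c j ^ d * ⟨e, he⟩, hι ?_⟩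
  rw [map_mul π, map_mul, map_mul, map_pow, map_pow, map_pow, hπ ⟨e, he⟩, hqe, hπ, hd, pow_add]
  ring

/-- The base change of `A` to a henselization of `P` along the `c j` is henselian along them. -/
theorem henselianRing_tensor {P A H : Type u} [CommRing P] [CommRing A] [CommRing H] [Algebra P A]
    [Algebra P H] {ι : Type u} [Finite ι] (c : ι → P)
    [HenselianRing H ((Ideal.span (Set.range c)).map (algebraMap P H))]
    (hb : ∀ G : Finset A, ∃ K : ℕ, ∀ j, ∀ a ∈ Subring.closure (G : Set A),
      ∃ p, algebraMap P A p = algebraMap P A (c j) ^ K * a) :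
    HenselianRing (H ⊗[P] A) ((Ideal.span (Set.range c)).map (algebraMap P (H ⊗[P] A))) := by
  classical
  have hmap : (Ideal.span (Set.range c)).map (algebraMap P (H ⊗[P] A)) =
      ((Ideal.span (Set.range c)).map (algebraMap P H)).map (algebraMap H (H ⊗[P] A)) := by
    rw [Ideal.map_map, ← IsScalarTower.algebraMap_eq]
  rw [hmap]
  refine henselianRing_of_bounded (algebraMap H (H ⊗[P] A)) (fun j => algebraMap P H (c j)) _
    (by rw [Ideal.map_span, ← Set.range_comp]; rfl) fun F => ?_
  choose S hS using fun x : H ⊗[P] A => TensorProduct.exists_finset x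
  let G : Finset A := F.biUnion fun x => (S x).image Prod.snd
  obtain ⟨K, hK⟩ := hb G
  refine ⟨K, fun j z hz => ?_⟩
  let A₀ := Subring.closure (G : Set A)
  let W := Submodule.span H ((fun a : A => (1 : H) ⊗ₜ[P] a) '' (A₀ : Set A))
  have hmem : ∀ a ∈ A₀, (1 : H) ⊗ₜ[P] a ∈ W := fun a ha => Submodule.subset_span ⟨a, ha, rfl⟩
  have hmul : ∀ x ∈ W, ∀ y ∈ W, x * y ∈ W := fun x hx y hy => by
    have h := Submodule.mul_mem_mul hx hy
    rw [Submodule.span_mul_span] at h
    refine Submodule.span_mono ?_ h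
    rintro _ ⟨_, ⟨a, ha, rfl⟩, _, ⟨a', ha', rfl⟩, rfl⟩
    exact ⟨a * a', mul_mem ha ha', by simp⟩
  have hW : z ∈ W := by
    induction hz using Subring.closure_induction with
    | mem x hx =>
      rcases hx with ⟨r, rfl⟩ | hx
      · rw [Algebra.algebraMap_eq_smul_one, Algebra.TensorProduct.one_def]
        exact W.smul_mem _ (hmem 1 (one_mem _))
      · rw [hS x]
        refine W.sum_mem fun i hi => ?_
        rw [show i.1 ⊗ₜ[P] i.2 = i.1 • ((1 : H) ⊗ₜ[P] i.2) by rw [TensorProduct.smul_tmul', smul_eq_mul, mul_one]]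
        exact W.smul_mem _ (hmem _ (Subring.subset_closure (Finset.mem_biUnion.2
          ⟨x, hx, Finset.mem_image.2 ⟨i, hi, rfl⟩⟩)))
    | zero => exact W.zero_mem
    | one => exact hmem 1 (one_mem _)
    | add x y _ _ hx hy => exact W.add_mem hx hy
    | neg x _ hx => exact W.neg_mem hx
    | mul x y _ _ hx hy => exact hmul x hx y hy
  clear hz
  induction hW using Submodule.span_induction with
  | mem x hx =>
    obtain ⟨a, ha, rfl⟩ := hx
    obtain ⟨p, hp⟩ := hK j a ha
    refine ⟨algebraMap P H p, ?_⟩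
    rw [← map_pow] at hp
    rw [← map_pow, ← map_pow]
    show algebraMap H (H ⊗[P] A) _ = algebraMap H (H ⊗[P] A) _ * _
    rw [Algebra.TensorProduct.algebraMap_apply, Algebra.TensorProduct.algebraMap_apply, Algebra.TensorProduct.tmul_mul_tmul, mul_one, one_mul]
    calc algebraMap P H p ⊗ₜ[P] (1 : A) = (1 : H) ⊗ₜ[P] algebraMap P A p := by
          rw [Algebra.algebraMap_eq_smul_one, Algebra.algebraMap_eq_smul_one, TensorProduct.smul_tmul]
      _ = (1 : H) ⊗ₜ[P] (algebraMap P A (c j ^ K) * a) := by rw [hp]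
      _ = algebraMap P H (c j ^ K) ⊗ₜ[P] a := by
          rw [← Algebra.smul_def, ← TensorProduct.smul_tmul, Algebra.algebraMap_eq_smul_one]
  | zero => exact ⟨0, by simp⟩
  | add x y _ _ hx hy =>
    obtain ⟨a, ha⟩ := hx
    obtain ⟨a', ha'⟩ := hy
    exact ⟨a + a', by rw [map_add, mul_add, ha, ha']⟩
  | smul r x _ hx =>
    obtain ⟨a, ha⟩ := hx
    exact ⟨r * a, by rw [map_mul, ha, Algebra.smul_def]; ring⟩

end Groth.AlgSpThick
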