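import Groth.Agent.AlgSpThick.FiniteCover
import Groth.Agent.AlgSpThick.Tower
import Groth.Agent.AlgSpBasic.Immersion
import Mathlib.AlgebraicGeometry.Sites.Fpqc

/-!
# Invariant functions of an affine chart of a thickening with affine reduced side
-/

set_option autoImplicit false
set_option backward.isDefEq.respectTransparency false

universe u

open CategoryTheory CategoryTheory.Limits AlgebraicGeometry Opposite AlgSp Groth.AlgSpBasic

namespace Groth.AlgSpThick

variable {S : Scheme.{u}}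

/-- The kernel pair of an affine chart of a thickening is a thickening of that of the reduced chart. -/
theorem exists_kernelPair_thick {X' : Sp S} {Z U' U R : Over S} [IsAffine Z.left] [IsAffine U.left]
    {i : (yon S).obj Z ⟶ X'} {p : (yon S).obj U' ⟶ X'} {jU : U ⟶ U'} {uU : U ⟶ Z}
    (hjU : MoreMor.IsThickening jU.left)
    (sq : IsPullback ((yon S).map jU) ((yon S).map uU) p i) {t s : R ⟶ U'}
    (sqR : IsPullback ((yon S).map t) ((yon S).map s) p p) :
    ∃ (R₂ : Over S) (jR : R₂ ⟶ R) (lam pr : R₂ ⟶ U), IsAffine R₂.left ∧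
      MoreMor.IsThickening jR.left ∧ jR ≫ t = lam ≫ jU ∧ jR ≫ s = pr ≫ jU ∧
      IsPullback lam pr uU uU := by
  let R₂ : Over S := Over.mk (pullback.fst s.left jU.left ≫ R.hom)
  let jR : R₂ ⟶ R := Over.homMk (pullback.fst s.left jU.left) rfl
  let pr : R₂ ⟶ U := Over.homMk (pullback.snd s.left jU.left) (by
    show pullback.snd s.left jU.left ≫ U.hom = pullback.fst s.left jU.left ≫ R.hom
    rw [← Over.w jU, ← Over.w s, ← Category.assoc, ← pullback.condition, Category.assoc])
  have sqm : IsPullback jR pr s jU :=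
    IsPullback.of_map (Over.forget S) (by ext1; exact pullback.condition) (IsPullback.of_hasPullback s.left jU.left)
  have hout : IsPullback ((yon S).map (jR ≫ t)) ((yon S).map pr) p ((yon S).map uU ≫ i) := by
    rw [← sq.w, Functor.map_comp]
    exact (sqm.map (yon S)).paste_horiz sqR
  obtain ⟨lam, hlam⟩ := (yon S).map_surjective (sq.lift ((yon S).map (jR ≫ t))
    ((yon S).map pr ≫ (yon S).map uU) (by rw [Category.assoc]; exact hout.w))
  have hsq₂ : IsPullback lam pr uU uU := by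
    refine isPullback_of_yon (IsPullback.of_right ?_ ?_ sq)
    · rw [hlam, sq.lift_fst]
      exact hout
    · rw [hlam, sq.lift_snd]
  have : IsAffineHom pr.left :=
    MorphismProperty.of_isPullback (isPullback_left hsq₂) (inferInstanceAs (IsAffineHom uU.left))
  refine ⟨R₂, jR, lam, pr, isAffine_of_isAffineHom pr.left,
    ⟨MorphismProperty.of_isPullback (isPullback_left sqm).flip hjU.1,
      MorphismProperty.of_isPullback (isPullback_left sqm).flip hjU.2⟩, ?_, sqm.w, hsq₂⟩
  exact (yon S).map_injective (by rw [Functor.map_comp _ lam, hlam, sq.lift_fst])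

/-- Functions on a basic open of an affine scheme are fractions. -/
theorem exists_appTop_ι_eq {X : Scheme.{u}} [IsAffine X] (b : Γ(X, ⊤))
    (y : Γ((X.basicOpen b).toScheme, ⊤)) : ∃ (x : Γ(X, ⊤)) (n : ℕ),
      y * (X.basicOpen b).ι.appTop b ^ n = (X.basicOpen b).ι.appTop x := by
  have := (isAffineOpen_top X).isLocalization_basicOpen b
  have hι : ∀ e : Γ(X, ⊤), (X.basicOpen b).ι.appTop e =
      (X.basicOpen b).topIso.inv (algebraMap Γ(X, ⊤) Γ(X, X.basicOpen b) e) := fun e => by
    rw [Scheme.Opens.ι_appTop, Scheme.Opens.topIso_inv, RingHom.algebraMap_toAlgebra,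
      ← CommRingCat.comp_apply, ← Functor.map_comp]
    rfl
  obtain ⟨⟨x, _, n, rfl⟩, hx⟩ := IsLocalization.surj (Submonoid.powers b) ((X.basicOpen b).topIso.hom y)
  refine ⟨x, n, ?_⟩
  rw [hι, hι, ← hx, map_mul, ← map_pow, ← CommRingCat.comp_apply, Iso.hom_inv_id]
  simp

/-- A function vanishing on a basic open of an affine scheme is killed by a power. -/
theorem exists_pow_mul_eq_zero {X : Scheme.{u}} [IsAffine X] (b z : Γ(X, ⊤))
    (h : (X.basicOpen b).ι.appTop z = 0) : ∃ k : ℕ, b ^ k * z = 0 := by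
  have := (isAffineOpen_top X).isLocalization_basicOpen b
  have h' : algebraMap Γ(X, ⊤) Γ(X, X.basicOpen b) z = 0 := by
    have := congrArg (X.basicOpen b).topIso.hom h
    rw [Scheme.Opens.ι_appTop, Scheme.Opens.topIso_hom, map_zero, ← CommRingCat.comp_apply,
      ← Functor.map_comp] at this
    rw [RingHom.algebraMap_toAlgebra]
    exact this
  obtain ⟨⟨_, k, rfl⟩, hk⟩ := (IsLocalization.map_eq_zero_iff (Submonoid.powers b) _ z).1 h'
  exact ⟨k, hk⟩

/-- An affine étale chart of a thickening `i : Z → X'` with affine `Z`, with its kernel pairs. -/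
structure Datum (S : Scheme.{u}) where
  X' : Sp S
  isAlgSpace : IsAlgSpace X'
  Z : Over S
  U' : Over S
  U : Over S
  R : Over S
  R₂ : Over S
  affZ : IsAffine Z.left
  affU' : IsAffine U'.left
  affU : IsAffine U.left
  affR : IsAffine R.left
  i : (yon S).obj Z ⟶ X'
  hi : IsThickMor i
  p : (yon S).obj U' ⟶ X'
  he : RepWith @Etale p
  hs : RepWith @Surjective p
  jU : U ⟶ U'
  uU : U ⟶ Z
  hjU : MoreMor.IsThickening jU.left
  sq : IsPullback ((yon S).map jU) ((yon S).map uU) p i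
  t : R ⟶ U'
  s : R ⟶ U'
  sqR : IsPullback ((yon S).map t) ((yon S).map s) p p
  jR : R₂ ⟶ R
  lam : R₂ ⟶ U
  pr : R₂ ⟶ U
  hjR : MoreMor.IsThickening jR.left
  hjt : jR ≫ t = lam ≫ jU
  hjs : jR ≫ s = pr ≫ jU
  sq₂ : IsPullback lam pr uU uU

attribute [instance] Datum.affZ Datum.affU' Datum.affU Datum.affR

/-- Every affine chart gives a datum. -/
theorem exists_datum {X' : Sp S} (hX' : IsAlgSpace X') {Z U' : Over S} [IsAffine Z.left]
    [IsAffine U'.left] {i : (yon S).obj Z ⟶ X'} (hi : IsThickMor i) {p : (yon S).obj U' ⟶ X'}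
    (he : RepWith @Etale p) (hs : RepWith @Surjective p) :
    ∃ D : Datum S, D.X' = X' ∧ D.Z = Z ∧ D.U' = U' ∧ HEq D.i i ∧ HEq D.p p := by
  obtain ⟨U, jU, uU, sq⟩ := exists_pullback_yon he.rep i
  obtain ⟨R, t, s, sqR⟩ := exists_pullback_yon he.rep p
  have hjU : MoreMor.IsThickening jU.left := hi.property p _ jU sq.flip
  have : IsAffine U.left := by have := hjU.1; exact isAffine_of_isAffineHom jU.left
  obtain ⟨R₂, jR, lam, pr, hR₂, hjR, hjt, hjs, sq₂⟩ := exists_kernelPair_thick hjU sq sqR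
  have : IsAffine R.left := by
    have := hjR.1
    have := hjR.2
    exact FlatMor2.isAffine_of_surjective_closedImmersion jR.left
  exact ⟨⟨X', hX', Z, U', U, R, R₂, ‹_›, ‹_›, ‹_›, ‹_›, i, hi, p, he, hs, jU, uU, hjU, sq, t, s, sqR,
    jR, lam, pr, hjR, hjt, hjs, sq₂⟩, rfl, rfl, rfl, HEq.rfl, HEq.rfl⟩

namespace Datum

variable (D : Datum S)

theorem etale_uU : Etale D.uU.left := D.he.property D.i _ D.uU D.sq

theorem surjective_uU : Surjective D.uU.left := D.hs.property D.i _ D.uU D.sq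

/-- Invariant functions on the chart. -/
abbrev inv : Subring Γ(D.U'.left, ⊤) := D.t.left.appTop.hom.eqLocus D.s.left.appTop.hom

/-- A function killed on the reduced chart is nilpotent. -/
theorem isNilpotent_of_jU (e : Γ(D.U'.left, ⊤)) (h : D.jU.left.appTop e = 0) : IsNilpotent e := by
  rw [Scheme.isNilpotent_iff_basicOpen_eq_bot, eq_bot_iff]
  intro x hx
  obtain ⟨y, rfl⟩ := D.hjU.2.surj x
  have : y ∈ D.jU.left ⁻¹ᵁ D.U'.left.basicOpen e := hx
  rw [Scheme.preimage_basicOpen_top, h, Scheme.basicOpen_zero] at this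
  exact this

theorem surjective_jU : Function.Surjective D.jU.left.appTop := by
  have := D.hjU.1
  exact (IsClosedImmersion.isAffine_surjective_of_isAffine D.jU.left).2

theorem appTop_jR_t (e : Γ(D.U'.left, ⊤)) :
    D.jR.left.appTop (D.t.left.appTop e) = D.lam.left.appTop (D.jU.left.appTop e) :=
  congrArg (fun k : D.R₂ ⟶ D.U' => k.left.appTop e) D.hjt

theorem appTop_jR_s (e : Γ(D.U'.left, ⊤)) :
    D.jR.left.appTop (D.s.left.appTop e) = D.pr.left.appTop (D.jU.left.appTop e) :=
  congrArg (fun k : D.R₂ ⟶ D.U' => k.left.appTop e) D.hjs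

/-- Lifts of functions on `Z` are invariant up to nilpotents. -/
theorem isNilpotent_sub (h : Γ(D.Z.left, ⊤)) (b : Γ(D.U'.left, ⊤))
    (hb : D.jU.left.appTop b = D.uU.left.appTop h) :
    IsNilpotent (D.t.left.appTop b - D.s.left.appTop b) := by
  rw [Scheme.isNilpotent_iff_basicOpen_eq_bot, eq_bot_iff]
  intro x hx
  obtain ⟨y, rfl⟩ := D.hjR.2.surj x
  have : y ∈ D.jR.left ⁻¹ᵁ D.R.left.basicOpen (D.t.left.appTop b - D.s.left.appTop b) := hx
  rw [Scheme.preimage_basicOpen_top, map_sub, D.appTop_jR_t, D.appTop_jR_s, hb] at this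
  have e : D.lam.left.appTop (D.uU.left.appTop h) = D.pr.left.appTop (D.uU.left.appTop h) :=
    congrArg (fun k : D.R₂ ⟶ D.Z => k.left.appTop h) D.sq₂.w
  rw [e, sub_self, Scheme.basicOpen_zero] at this
  exact this

theorem injective_uU : Function.Injective D.uU.left.appTop :=
  have := D.etale_uU
  have := D.surjective_uU
  ((Flat.flat_and_surjective_iff_faithfullyFlat_of_isAffine D.uU.left).1
    ⟨inferInstance, inferInstance⟩).injective

/-- Invariant functions restrict to functions on `Z`. -/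
theorem exists_res : ∃ π : D.inv →+* Γ(D.Z.left, ⊤),
    ∀ e : D.inv, D.uU.left.appTop (π e) = D.jU.left.appTop e := by
  have := D.etale_uU
  have := D.surjective_uU
  let v : D.U.left ⟶ Spec (CommRingCat.of D.inv) :=
    D.U.left.toSpecΓ ≫ Spec.map (CommRingCat.ofHom (D.jU.left.appTop.hom.comp D.inv.subtype))
  have hv : D.lam.left ≫ v = D.pr.left ≫ v := by
    simp only [v]
    rw [Scheme.toSpecΓ_naturality_assoc, Scheme.toSpecΓ_naturality_assoc, ← Spec.map_comp,
      ← Spec.map_comp]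
    congr 2
    ext e
    show D.lam.left.appTop (D.jU.left.appTop e.1) = D.pr.left.appTop (D.jU.left.appTop e.1)
    rw [← D.appTop_jR_t, ← D.appTop_jR_s]
    exact congrArg _ e.2
  have hpb := isPullback_left D.sq₂
  have hdesc : ∀ {T : Scheme.{u}} (g₁ g₂ : T ⟶ D.U.left), g₁ ≫ D.uU.left = g₂ ≫ D.uU.left →
      g₁ ≫ v = g₂ ≫ v := fun g₁ g₂ h => by
    rw [← hpb.lift_fst g₁ g₂ h, Category.assoc, hv, ← Category.assoc, hpb.lift_snd]
  let g := EffectiveEpi.desc D.uU.left v hdesc
  obtain ⟨φ, hφ⟩ := Spec.map_surjective (D.Z.left.isoSpec.inv ≫ g)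
  refine ⟨φ.hom, fun e => ?_⟩
  have h : D.U.left.toSpecΓ ≫ Spec.map (φ ≫ D.uU.left.appTop) = v := by
    rw [Spec.map_comp, hφ, ← Category.assoc, ← Scheme.toSpecΓ_naturality, Category.assoc]
    show D.uU.left ≫ D.Z.left.isoSpec.hom ≫ D.Z.left.isoSpec.inv ≫ g = v
    rw [Iso.hom_inv_id_assoc]
    exact EffectiveEpi.fac D.uU.left v hdesc
  have : φ ≫ D.uU.left.appTop = CommRingCat.ofHom (D.jU.left.appTop.hom.comp D.inv.subtype) :=
    Spec.map_injective ((cancel_epi D.U.left.toSpecΓ).1 h)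
  exact congrArg (fun k : CommRingCat.of D.inv ⟶ Γ(D.U.left, ⊤) => k e) this

variable {G : Over S} {a : (yon S).obj G ⟶ D.X'}

set_option maxHeartbeats 1000000 in
/-- Over an affine open piece, functions on `Z` lift to functions invariant after inverting. -/
theorem exists_lift_invariant [IsAffine G.left] (ha : RepWith @IsOpenImmersion a)
    (h : Γ(D.Z.left, ⊤)) (hr : ∀ z, Points.ofPt D.i z ∈ Set.range (Points.ofPt a) ↔ z ∈ D.Z.left.basicOpen h)
    (b : Γ(D.U'.left, ⊤)) (hb : D.jU.left.appTop b = D.uU.left.appTop h) (α : Γ(D.Z.left, ⊤)) :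
    ∃ (x : Γ(D.U'.left, ⊤)) (n m : ℕ), D.jU.left.appTop x = D.uU.left.appTop α * D.jU.left.appTop b ^ n ∧
      D.t.left.appTop b ^ m * (D.t.left.appTop x * D.s.left.appTop b ^ n -
        D.s.left.appTop x * D.t.left.appTop b ^ n) = 0 := by
  have hm : Mono a := Groth.AlgSp2.mono_of_open ha
  -- the points of the piece on the chart are those of `D(b)`
  have hU' : ∀ y, Points.ofPt D.p y ∈ Set.range (Points.ofPt a) ↔ y ∈ D.U'.left.basicOpen b := by
    intro y
    obtain ⟨v, rfl⟩ := D.hjU.2.surj y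
    have e : Points.ofPt D.p (D.jU.left v) = Points.ofPt D.i (D.uU.left v) := by
      rw [← ofPt_comp_yon, ← ofPt_comp_yon, D.sq.w]
    rw [e, hr]
    change v ∈ D.uU.left ⁻¹ᵁ D.Z.left.basicOpen h ↔ v ∈ D.jU.left ⁻¹ᵁ D.U'.left.basicOpen b
    rw [Scheme.preimage_basicOpen_top, Scheme.preimage_basicOpen_top, hb]
  -- lifts to the piece
  let Eb : Over S := Over.mk ((D.U'.left.basicOpen b).ι ≫ D.U'.hom)
  let ιb : Eb ⟶ D.U' := Over.homMk (D.U'.left.basicOpen b).ι rfl
  obtain ⟨lG, hlG⟩ := exists_lift_of_range_openImmersion (IsAlgSpace.yon_obj Eb) ha ((yon S).map ιb ≫ D.p) (by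
    rintro _ ⟨w, rfl⟩
    obtain ⟨w₀, rfl⟩ := surjective_ofPt_of_repWith (a := 𝟙 ((yon S).obj Eb)) (repWith_isIso _) w
    rw [Points.map_ofPt, Category.id_comp, ofPt_comp_yon]
    obtain ⟨g₀, hg₀⟩ := (hU' _).2 w₀.2
    exact ⟨Points.ofPt (𝟙 _) g₀, by rw [Points.map_ofPt, Category.id_comp, hg₀]; rfl⟩)
  obtain ⟨lg, rfl⟩ := (yon S).map_surjective lG
  obtain ⟨W, jW, snd, sqW⟩ := exists_pullback_yon ha.rep D.i
  have hjW : MoreMor.IsThickening jW.left := D.hi.property a _ jW sqW.flip
  have hsnd : IsOpenImmersion snd.left := ha.property D.i _ snd sqW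
  have hrange : snd.left.opensRange = D.Z.left.basicOpen h := by
    ext z
    show z ∈ Set.range snd.left ↔ _
    rw [Groth.AlgSpBasic.range_left_eq_preimage sqW]
    show Points.ofPt D.i z ∈ Set.range (Points.map a) ↔ _
    refine Iff.trans ?_ (hr z)
    constructor
    · rintro ⟨g, hg⟩
      obtain ⟨g₀, rfl⟩ := surjective_ofPt_of_repWith (a := 𝟙 ((yon S).obj G)) (repWith_isIso _) g
      exact ⟨g₀, by rw [← hg, Points.map_ofPt, Category.id_comp]⟩
    · rintro ⟨g, hg⟩
      exact ⟨Points.ofPt (𝟙 _) g, by rw [Points.map_ofPt, Category.id_comp, hg]⟩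
  have : IsAffine W.left := by have := hjW.1; exact isAffine_of_isAffineHom jW.left
  have hsurjW : Function.Surjective jW.left.appTop := by
    have := hjW.1
    exact (IsClosedImmersion.isAffine_surjective_of_isAffine jW.left).2
  obtain ⟨α', hα'⟩ := hsurjW (snd.left.appTop α)
  obtain ⟨x, n, hx⟩ := exists_appTop_ι_eq b (lg.left.appTop α')
  -- the restriction to the reduced chart
  obtain ⟨k, hk⟩ : ∃ k : ℕ, D.jU.left.appTop b ^ k *
      (D.jU.left.appTop x - D.uU.left.appTop α * D.jU.left.appTop b ^ n) = 0 := by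
    refine exists_pow_mul_eq_zero _ _ ?_
    let V := D.U.left.basicOpen (D.jU.left.appTop b)
    let Vo : Over S := Over.mk (V.ι ≫ D.U.hom)
    let ιV : Vo ⟶ D.U := Over.homMk V.ι rfl
    have hV : V = D.jU.left ⁻¹ᵁ D.U'.left.basicOpen b := (Scheme.preimage_basicOpen_top _ _).symm
    have hsub : Set.range (V.ι ≫ D.jU.left) ⊆ Set.range (D.U'.left.basicOpen b).ι := by
      rintro _ ⟨v, rfl⟩
      rw [Scheme.Opens.range_ι]
      exact hV.le v.2
    let kb : Vo ⟶ Eb := Over.homMk (IsOpenImmersion.lift (D.U'.left.basicOpen b).ι (V.ι ≫ D.jU.left) hsub) (by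
      show IsOpenImmersion.lift (D.U'.left.basicOpen b).ι _ hsub ≫ (D.U'.left.basicOpen b).ι ≫ D.U'.hom =
        V.ι ≫ D.U.hom
      rw [IsOpenImmersion.lift_fac_assoc, Category.assoc, Over.w D.jU])
    have hkb : kb ≫ ιb = ιV ≫ D.jU := Over.OverMorphism.ext (IsOpenImmersion.lift_fac _ _ _)
    obtain ⟨mu, hmu⟩ := (yon S).map_surjective (sqW.lift ((yon S).map (kb ≫ lg))
      ((yon S).map (ιV ≫ D.uU)) (by
        rw [Functor.map_comp, Category.assoc, hlG, ← Functor.map_comp_assoc, hkb, Functor.map_comp_assoc,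
          D.sq.w, ← Functor.map_comp_assoc]))
    have h₁ : mu ≫ jW = kb ≫ lg := (yon S).map_injective (by rw [Functor.map_comp, hmu, sqW.lift_fst])
    have h₂ : mu ≫ snd = ιV ≫ D.uU := (yon S).map_injective (by rw [Functor.map_comp, hmu, sqW.lift_snd])
    have e₁ : kb.left.appTop (lg.left.appTop α') = V.ι.appTop (D.uU.left.appTop α) :=
      calc _ = mu.left.appTop (jW.left.appTop α') :=
            congrArg (fun f : Vo ⟶ G => f.left.appTop α') h₁.symm
        _ = mu.left.appTop (snd.left.appTop α) := by rw [hα']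
        _ = _ := congrArg (fun f : Vo ⟶ D.Z => f.left.appTop α) h₂
    have e₂ : ∀ e, kb.left.appTop ((D.U'.left.basicOpen b).ι.appTop e) = V.ι.appTop (D.jU.left.appTop e) :=
      fun e => congrArg (fun f : Vo ⟶ D.U' => f.left.appTop e) hkb
    have := congrArg kb.left.appTop hx
    rw [map_mul, map_pow, e₁, e₂, e₂] at this
    rw [map_sub, map_mul, map_pow, this, sub_self]
  -- the restrictions to the kernel pair
  obtain ⟨m, hm'⟩ : ∃ m : ℕ, D.t.left.appTop b ^ m * (D.t.left.appTop x * D.s.left.appTop b ^ n -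
        D.s.left.appTop x * D.t.left.appTop b ^ n) = 0 := by
    refine exists_pow_mul_eq_zero _ _ ?_
    let V := D.R.left.basicOpen (D.t.left.appTop b)
    let Vo : Over S := Over.mk (V.ι ≫ D.R.hom)
    let ιV : Vo ⟶ D.R := Over.homMk V.ι rfl
    have hV : ∀ k : D.R ⟶ D.U', k = D.t ∨ k = D.s →
        Set.range (V.ι ≫ k.left) ⊆ Set.range (D.U'.left.basicOpen b).ι := by
      rintro k hk _ ⟨v, rfl⟩
      rw [Scheme.Opens.range_ι]
      have hv : D.t.left (V.ι v) ∈ D.U'.left.basicOpen b := by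
        change V.ι v ∈ D.t.left ⁻¹ᵁ D.U'.left.basicOpen b
        rw [Scheme.preimage_basicOpen_top]
        exact v.2
      rcases hk with rfl | rfl
      · exact hv
      · refine (hU' _).1 ?_
        rw [Scheme.Hom.comp_apply, ← (ofPt_eq_ofPt_iff D.sqR (D.t.left (V.ι v)) (D.s.left (V.ι v))).2 ⟨V.ι v, rfl, rfl⟩]
        exact (hU' _).2 hv
    let lift (k : D.R ⟶ D.U') (hk : k = D.t ∨ k = D.s) : Vo ⟶ Eb :=
      Over.homMk (IsOpenImmersion.lift (D.U'.left.basicOpen b).ι (V.ι ≫ k.left) (hV k hk)) (by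
        show IsOpenImmersion.lift (D.U'.left.basicOpen b).ι _ (hV k hk) ≫ (D.U'.left.basicOpen b).ι ≫
          D.U'.hom = V.ι ≫ D.R.hom
        rw [IsOpenImmersion.lift_fac_assoc, Category.assoc, Over.w k])
    have hl : ∀ k hk, lift k hk ≫ ιb = ιV ≫ k := fun k hk =>
      Over.OverMorphism.ext (IsOpenImmersion.lift_fac _ _ _)
    have e : lift D.t (.inl rfl) ≫ lg = lift D.s (.inr rfl) ≫ lg := (yon S).map_injective (by
      rw [← cancel_mono a, Functor.map_comp, Functor.map_comp, Category.assoc, Category.assoc, hlG,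
        ← Functor.map_comp_assoc, ← Functor.map_comp_assoc, hl D.t (.inl rfl), hl D.s (.inr rfl), Functor.map_comp_assoc,
        Functor.map_comp_assoc, D.sqR.w])
    have e₂ : ∀ k hk z, (lift k hk).left.appTop ((D.U'.left.basicOpen b).ι.appTop z) =
        V.ι.appTop (k.left.appTop z) := fun k hk z =>
      congrArg (fun f : Vo ⟶ D.U' => f.left.appTop z) (hl k hk)
    have ht := congrArg (lift D.t (.inl rfl)).left.appTop hx
    have hs := congrArg (lift D.s (.inr rfl)).left.appTop hx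
    rw [map_mul, map_pow, e₂ D.t (.inl rfl), e₂ D.t (.inl rfl)] at ht
    rw [map_mul, map_pow, e₂ D.s (.inr rfl), e₂ D.s (.inr rfl)] at hs
    have e₃ : (lift D.t (.inl rfl)).left.appTop (lg.left.appTop α') =
        (lift D.s (.inr rfl)).left.appTop (lg.left.appTop α') :=
      congrArg (fun f : Vo ⟶ G => f.left.appTop α') e
    rw [e₃] at ht
    rw [map_sub, map_mul, map_mul, map_pow, map_pow, ← ht, ← hs]
    ring
  refine ⟨x * b ^ k, n + k, m, ?_, ?_⟩
  · rw [map_mul, map_pow, pow_add, ← mul_assoc, ← sub_eq_zero, ← sub_mul, mul_comm, hk]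
  · rw [map_mul, map_mul, map_pow, map_pow, pow_add, pow_add]
    linear_combination (D.t.left.appTop b ^ k * D.s.left.appTop b ^ k) * hm'

end Datum

end Groth.AlgSpThick
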