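import Groth.Agent.FlatMor2.Weighting.FibreDegree
import Groth.Agent.Hensel1.FiniteEtaleLift
import Groth.Agent.Hensel1.BaseLift
import Groth.Agent.DescentBase.DimEtale

/-!
# Finite etale covers over a henselian base from a chart of constant degree

If `B` is etale and surjective over `A`, of constant fibre degree on the preimage of `V(J)`, and
`(AH, J)` is henselian over `A`, then there is a finite etale cover of `AH` mapping to `B`.
-/

set_option autoImplicit false

universe u

open CategoryTheory CategoryTheory.Limits AlgebraicGeometry TensorProduct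

namespace Groth.AlgSpThick

theorem exists_finite_etale_cover {A AH B : Type u} [CommRing A] [CommRing AH] [CommRing B]
    [Algebra A AH] [Algebra A B] [Algebra.Etale A B] (J : Ideal AH) [HenselianRing AH J]
    [Surjective (Spec.map (CommRingCat.ofHom (algebraMap A B)))] (n : ℕ)
    (hdeg : ∀ 𝔮 : PrimeSpectrum AH, J ≤ 𝔮.asIdeal →
      Groth.FlatMor2.fibDeg (Spec.map (CommRingCat.ofHom (algebraMap A B)))
        (PrimeSpectrum.comap (algebraMap A AH) 𝔮) = n) :
    ∃ (W : Type u) (_ : CommRing W) (_ : Algebra AH W) (τ : B →+* W),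
      Module.Finite AH W ∧ Algebra.Etale AH W ∧
      τ.comp (algebraMap A B) = (algebraMap AH W).comp (algebraMap A AH) ∧
      Function.Surjective (PrimeSpectrum.comap (algebraMap AH W)) := by
  let f := Spec.map (CommRingCat.ofHom (algebraMap A B))
  have : Etale f := HasRingHomProperty.Spec_iff.2 (RingHom.etale_algebraMap.2 inferInstance)
  have : LocallyQuasiFinite f := Groth.DescentBase.locallyQuasiFinite_of_etale f
  have hfin : ∀ s, (f ⁻¹' {s}).Finite := fun s => f.finite_preimage_singleton s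
  let g := Spec.map (CommRingCat.ofHom (algebraMap A (AH ⧸ J)))
  have h := (Groth.FlatMor2.isFinLocFreeOfDeg_iff f hfin g n).2 fun t => by
    obtain ⟨t, rfl⟩ : ∃ t' : PrimeSpectrum (AH ⧸ J), t' = t := ⟨t, rfl⟩
    have := hdeg (PrimeSpectrum.comap (Ideal.Quotient.mk J) t) (by
      intro x hx
      show Ideal.Quotient.mk J x ∈ t.asIdeal
      rw [Ideal.Quotient.eq_zero_iff_mem.2 hx]
      exact t.asIdeal.zero_mem)
    refine Eq.trans ?_ this
    congr 1
  have hCfin : Module.Finite (AH ⧸ J) ((AH ⧸ J) ⊗[A] B) := by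
    rw [← RingHom.finite_algebraMap]
    refine IsFinite.SpecMap_iff (CommRingCat.ofHom (algebraMap (AH ⧸ J) ((AH ⧸ J) ⊗[A] B))) |>.1 ?_
    have := h.1.1
    show IsFinite (Spec.map (CommRingCat.ofHom (Algebra.TensorProduct.includeLeftRingHom (R := A) (A := AH ⧸ J) (B := B))))
    rw [← pullbackSpecIso_inv_fst A (AH ⧸ J) B]
    have : IsFinite (pullback.fst g f) := by
      rw [← pullbackSymmetry_hom_comp_snd g f]; infer_instance
    infer_instance
  have hCsurj : Function.Surjective
      (PrimeSpectrum.comap (algebraMap (AH ⧸ J) ((AH ⧸ J) ⊗[A] B))) := by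
    have h1 : Surjective (pullback.fst g f) := MorphismProperty.pullback_fst g f ‹Surjective f›
    intro x
    obtain ⟨y, hy⟩ := h1.surj x
    refine ⟨(pullbackSpecIso A (AH ⧸ J) B).hom y, ?_⟩
    rw [← hy, ← pullbackSpecIso_hom_fst' A (AH ⧸ J) B]
    rfl
  obtain ⟨W, _, _, hWf, hWe, ⟨e⟩⟩ := Groth.Hensel1.exists_finite_etale_lift J ((AH ⧸ J) ⊗[A] B)
  let := ((algebraMap AH W).comp (algebraMap A AH)).toAlgebra
  have : IsScalarTower A AH W := IsScalarTower.of_algebraMap_eq fun _ => rfl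
  have := Groth.Hensel1.henselianRing_of_isIntegral (I := J) W
  let ψ : (AH ⧸ J) ⊗[AH] W →ₐ[AH] W ⧸ J.map (algebraMap AH W) :=
    Algebra.TensorProduct.lift
      (Ideal.quotientMapₐ (R₁ := AH) (I := J) (J.map (algebraMap AH W)) (Algebra.ofId AH W) Ideal.le_comap_map)
      (Ideal.Quotient.mkₐ AH _) fun _ _ => Commute.all _ _
  let φ : B →ₐ[A] (AH ⧸ J) ⊗[AH] W :=
    (e.symm.toAlgHom.restrictScalars A).comp Algebra.TensorProduct.includeRight
  obtain ⟨τ, -, -⟩ := Groth.Hensel1.existsUnique_algHom_etale_lift (J := J.map (algebraMap AH W))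
    ((ψ.restrictScalars A).comp φ)
  refine ⟨W, inferInstance, inferInstance, τ.toRingHom, hWf, hWe, τ.comp_algebraMap, fun 𝔮 => ?_⟩
  -- the image of the finite étale cover is open and closed and contains `V(J)`
  have : Etale (Spec.map (CommRingCat.ofHom (algebraMap AH W))) :=
    HasRingHomProperty.Spec_iff.2 (RingHom.etale_algebraMap.2 hWe)
  have hop : IsOpen (Set.range (PrimeSpectrum.comap (algebraMap AH W))) :=
    (Spec.map (CommRingCat.ofHom (algebraMap AH W))).isOpenMap.isOpen_range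
  by_contra hne
  have hne' : 𝔮 ∈ (Set.range (PrimeSpectrum.comap (algebraMap AH W)))ᶜ := hne
  obtain ⟨I, hI⟩ := (PrimeSpectrum.isClosed_iff_zeroLocus_ideal _).1 hop.isClosed_compl
  rw [hI] at hne'
  obtain ⟨M, hM, hIM⟩ := Ideal.exists_le_maximal I (fun e => 𝔮.isPrime.ne_top (top_le_iff.1 (e ▸ hne')))
  have hMI : (⟨M, hM.isPrime⟩ : PrimeSpectrum AH) ∈ PrimeSpectrum.zeroLocus (I : Set AH) := hIM
  rw [← hI] at hMI
  refine hMI ?_
  have hJM : J ≤ M := (HenselianRing.jac (I := J)).trans (sInf_le ⟨bot_le, hM⟩)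
  have hprime : (M.map (Ideal.Quotient.mk J)).IsPrime :=
    Ideal.map_isPrime_of_surjective Ideal.Quotient.mk_surjective (by rwa [Ideal.mk_ker])
  obtain ⟨Q, hQ⟩ := hCsurj ⟨M.map (Ideal.Quotient.mk J), hprime⟩
  refine ⟨PrimeSpectrum.comap (
    e.toAlgHom.toRingHom.comp Algebra.TensorProduct.includeRight.toRingHom) Q, ?_⟩
  ext x
  have key : e ((1 : AH ⧸ J) ⊗ₜ[AH] algebraMap AH W x) =
      algebraMap (AH ⧸ J) ((AH ⧸ J) ⊗[A] B) (Ideal.Quotient.mk J x) := by
    rw [← Algebra.TensorProduct.algebraMap_apply', IsScalarTower.algebraMap_apply AH (AH ⧸ J)]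
    exact e.commutes _
  show e ((1 : AH ⧸ J) ⊗ₜ[AH] algebraMap AH W x) ∈ Q.asIdeal ↔ x ∈ M
  rw [key]
  have := congrArg (fun p => Ideal.Quotient.mk J x ∈ p.asIdeal) hQ
  simp only [PrimeSpectrum.comap_asIdeal, Ideal.mem_comap, eq_iff_iff] at this
  rw [this, ← Ideal.mem_comap, Ideal.comap_map_of_surjective _ Ideal.Quotient.mk_surjective,
    ← RingHom.ker_eq_comap_bot, Ideal.mk_ker, sup_eq_left.2 hJM]

end Groth.AlgSpThick
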