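import Groth.Agent.AlgSpThick.Descend
import Groth.Agent.AlgSpThick.Lift
import Groth.Agent.HensPair.Colimit
import Groth.Agent.EGA41Two.LocalCons
import Groth.Agent.AlgSp2.AffineDescent

/-!
# A thickening of an affine scheme with constant fibre degree off the schematic locus is affine
-/

set_option autoImplicit false
set_option backward.isDefEq.respectTransparency false

universe u

open CategoryTheory CategoryTheory.Limits AlgebraicGeometry Opposite AlgSp Groth.AlgSpBasic TopologicalSpace
open scoped TensorProduct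

namespace Groth.AlgSpThick

variable {S : Scheme.{u}}

/-- A finite jointly surjective family of flat maps of affine schemes is an fpqc covering. -/
theorem isFpqcCover_of_finite {ι : Type u} [Finite ι] {Q : Over S} [IsAffine Q.left] {F : ι → Over S}
    [∀ i, IsAffine (F i).left] (g : ∀ i, F i ⟶ Q) (hg : ∀ i, Flat (g i).left)
    (hs : ∀ x : ↥Q.left, ∃ i, x ∈ Set.range (g i).left) :
    IsFpqcCover (fun i => (yon S).obj (F i)) (fun i => (yon S).map (g i)) := by
  have := Fintype.ofFinite ι
  refine ⟨fun i => locP_of_repWith ((repWith_yon_map_iff _ _).2 (hg i)), fun Z hZ h => ?_⟩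
  obtain ⟨k, rfl⟩ := (yon S).map_surjective h
  let e := (Fintype.equivFin ι).symm
  let M : Fin (Fintype.card ι) → Over S := fun r =>
    Over.mk (pullback.fst k.left (g (e r)).left ≫ Z.hom)
  have : IsAffine Z.left := hZ
  refine ⟨_, M, fun r => Over.homMk (pullback.fst k.left (g (e r)).left) rfl,
    fun r => inferInstanceAs (IsAffine (pullback k.left (g (e r)).left)),
    fun r => by have := hg (e r); exact inferInstanceAs (Flat (pullback.fst k.left (g (e r)).left)),
    fun z => ?_, fun r => ⟨e r, (yon S).map (Over.homMk (pullback.snd k.left (g (e r)).left) (by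
      change pullback.snd k.left (g (e r)).left ≫ (F (e r)).hom = pullback.fst k.left (g (e r)).left ≫ Z.hom
      rw [← Over.w (g (e r)), ← pullback.condition_assoc, Over.w k])), ?_⟩⟩
  · obtain ⟨i, hi⟩ := hs (k.left z)
    obtain ⟨r, rfl⟩ := e.surjective i
    obtain ⟨y, hy⟩ := hi
    obtain ⟨w, hw, -⟩ := Scheme.Pullback.exists_preimage_pullback z y hy.symm
    exact ⟨r, w, hw⟩
  · rw [← Functor.map_comp, ← Functor.map_comp]
    congr 1
    exact Over.OverMorphism.ext pullback.condition.symm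

namespace Datum

variable (D : Datum S)

/-- The degree of the fibre of the reduced chart at a point. -/
noncomputable def deg (z : ↥D.Z.left) : ℕ :=
  Groth.FlatMor2.fibDeg (Spec.map D.uU.left.appTop) (D.Z.left.isoSpec.hom z)

theorem specMap_uU : Etale (Spec.map D.uU.left.appTop) ∧ Surjective (Spec.map D.uU.left.appTop) ∧
    IsSeparated (Spec.map D.uU.left.appTop) ∧ LocallyQuasiFinite (Spec.map D.uU.left.appTop) ∧
    Flat (Spec.map D.uU.left.appTop) ∧ LocallyOfFinitePresentation (Spec.map D.uU.left.appTop) := by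
  have e : Spec.map D.uU.left.appTop = D.U.left.isoSpec.inv ≫ D.uU.left ≫ D.Z.left.isoSpec.hom := by
    rw [Iso.eq_inv_comp]
    exact Scheme.isoSpec_hom_naturality D.uU.left
  have := D.etale_uU
  have := D.surjective_uU
  have h1 : Etale (Spec.map D.uU.left.appTop) := by rw [e]; infer_instance
  exact ⟨h1, by rw [e]; infer_instance, inferInstance,
    Groth.DescentBase.locallyQuasiFinite_of_etale _, inferInstance, inferInstance⟩

/-- The points of large degree form a quasi-compact open. -/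
theorem isCompact_lt_deg (n : ℕ) :
    IsCompact {x : ↥(Spec Γ(D.Z.left, ⊤)) | n < Groth.FlatMor2.fibDeg (Spec.map D.uU.left.appTop) x} := by
  obtain ⟨_, _, _, _, _, _⟩ := D.specMap_uU
  let f := Spec.map D.uU.left.appTop
  have hfin : ∀ s, (f ⁻¹' {s}).Finite := fun s => f.finite_preimage_singleton s
  have h := Groth.FlatMor2.isLocallyConstructible_fibreIntegral f _ (Groth.FlatMor2.isWeighting_flatWeight f)
    (Set.Ioi (n : ℤ))
  rw [funext fun s => Groth.FlatMor2.fibreIntegral_eq_fibDeg f s (hfin s)] at h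
  have hE : ((fun s => (Groth.FlatMor2.fibDeg f s : ℤ)) ⁻¹' Set.Ioi (n : ℤ)) =
      {s | n < Groth.FlatMor2.fibDeg f s} := by ext s; simp
  rw [hE] at h
  let A : (Spec Γ(D.Z.left, ⊤)).Opens := ⊤
  have hA : IsAffineOpen A := isAffineOpen_top _
  have : IsAffine A.toScheme := hA
  have := Groth.FlatMor2.spectralSpace_of_isAffine A.toScheme
  have hc : IsCompact (Subtype.val ⁻¹' {s | n < Groth.FlatMor2.fibDeg f s} : Set A.toScheme) :=
    SpectralTopology.isCompact_of_isClosed_ct ((EGA41Two.isLocallyConstructible_iff_lClosed.mp h).1 A hA)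
  have := hc.image continuous_subtype_val
  rwa [Set.image_preimage_eq _ fun x => ⟨⟨x, trivial⟩, rfl⟩] at this

/-- The open piece of an invariant function is the base change of `X' → Q` to its basic open. -/
theorem exists_affine_piece_baseChange {Q F : Over S} (g : F ⟶ Q) [IsOpenImmersion g.left]
    (f : D.X' ⟶ (yon S).obj Q) {πZ : D.Z ⟶ Q} (hfZ : D.i ≫ f = (yon S).map πZ)
    {G : Over S} [IsAffine G.left] {a : (yon S).obj G ⟶ D.X'} (ha : RepWith @IsOpenImmersion a)
    (hr : ∀ z, Points.ofPt D.i z ∈ Set.range (Points.ofPt a) ↔ πZ.left z ∈ Set.range g.left) :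
    ∃ (Y : Over S) (_ : IsAffine Y.left),
      Nonempty ((yon S).obj Y ≅ pullback f ((yon S).map g)) := by
  have : Mono a := Groth.AlgSp2.mono_of_open ha
  have hsurj : ∀ x : Points D.X', ∃ z, Points.ofPt D.i z = x := fun x => by
    obtain ⟨z, rfl⟩ := (Groth.AlgSp2.isHomeomorph_map_of_isThickMor D.hi).surjective x
    obtain ⟨z₀, rfl⟩ := (Points.schemeEquiv D.Z).surjective z
    exact ⟨z₀, ofPt_eq_map D.i z₀⟩
  -- the value of `f` at a point
  have hval : ∀ {T : Over S} (b : (yon S).obj T ⟶ D.X') (ψ : T ⟶ Q), b ≫ f = (yon S).map ψ →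
      ∀ t z, Points.ofPt D.i z = Points.ofPt b t → ψ.left t = πZ.left z := fun {T} b ψ hb t z e => by
    have := congrArg (Points.map f) e
    rw [Points.map_ofPt, Points.map_ofPt, hfZ, hb] at this
    have := congrArg (Points.toScheme Q) this
    rw [Points.toScheme_ofPt, Points.toScheme_ofPt] at this
    exact this.symm
  obtain ⟨ψ, hψ⟩ := (yon S).map_surjective (a ≫ f)
  have hψr : Set.range ψ.left ⊆ Set.range g.left := by
    rintro _ ⟨t, rfl⟩
    obtain ⟨z, hz⟩ := hsurj (Points.ofPt a t)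
    rw [hval a ψ hψ.symm t z hz]
    exact (hr z).1 ⟨t, hz.symm⟩
  let ψ₀ : G ⟶ F := Over.homMk (IsOpenImmersion.lift g.left ψ.left hψr) (by
    rw [← Over.w g, IsOpenImmersion.lift_fac_assoc, Over.w ψ])
  have hψ₀ : ψ₀ ≫ g = ψ := Over.OverMorphism.ext (IsOpenImmersion.lift_fac _ _ _)
  have : Mono g := (Over.forget S).mono_of_mono_map (inferInstanceAs (Mono g.left))
  have sq : IsPullback a ((yon S).map ψ₀) f ((yon S).map g) := by
    refine isPullback_of_lifts (by rw [← hψ, ← Functor.map_comp, hψ₀]) (fun T b c hbc => ?_)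
      fun T x x' h₁ _ => (cancel_mono a).1 h₁
    obtain ⟨c, rfl⟩ := (yon S).map_surjective c
    obtain ⟨x, hx⟩ := exists_lift_of_range_openImmersion (IsAlgSpace.yon_obj T) ha b (by
      rintro _ ⟨w, rfl⟩
      obtain ⟨t, rfl⟩ := (Points.schemeEquiv T).surjective w
      rw [show Points.map b (Points.schemeEquiv T t) = Points.ofPt b t from (ofPt_eq_map b t).symm]
      obtain ⟨z, hz⟩ := hsurj (Points.ofPt b t)
      obtain ⟨g₀, hg₀⟩ := (hr z).2 ⟨c.left t, by
        rw [← hval b (c ≫ g) (by rw [hbc, Functor.map_comp]) t z hz]; rfl⟩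
      exact ⟨Points.schemeEquiv G g₀,
        (show Points.map a (Points.schemeEquiv G g₀) = Points.ofPt a g₀ from (ofPt_eq_map a g₀).symm).trans
          (hg₀.trans hz)⟩)
    refine ⟨x, hx, (cancel_mono ((yon S).map g)).1 ?_⟩
    rw [Category.assoc, ← Functor.map_comp, hψ₀, hψ, ← Category.assoc, hx, hbc]
  exact ⟨G, ‹_›, ⟨sq.isoPullback⟩⟩

set_option maxHeartbeats 1000000 in
/-- If the fibre degree of the chart is constant off the schematic locus, the thickening is affine. -/
theorem exists_affine_of_constant_stratum {S₀ : S.Opens} (hS₀ : IsAffineOpen S₀)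
    (hU : Set.range D.U'.hom ⊆ (S₀ : Set ↥S)) (n : ℕ) (hge : ∀ z, n ≤ D.deg z)
    (hconst : ∀ z, z ∉ D.Omega → D.deg z = n) :
    ∃ (Y : Over S) (_ : IsAffine Y.left), Nonempty ((yon S).obj Y ≅ D.X') := by
  classical
  obtain ⟨π, hπ⟩ := D.exists_res
  obtain ⟨hom, f, πU, πZ, hπU, hπZ, hfU, hfZ⟩ := D.exists_spec_inv π hπ hS₀ hU
  obtain ⟨_, _, _, _, _, _⟩ := D.specMap_uU
  let fU := Spec.map D.uU.left.appTop
  -- finitely many invariant functions with affine piece covering the large degrees
  have hpre : ∀ (a : Γ(D.Z.left, ⊤)) (z : ↥D.Z.left), z ∈ D.Z.left.basicOpen a ↔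
      D.Z.left.isoSpec.hom z ∈ PrimeSpectrum.basicOpen a := fun a z => by
    rw [← Scheme.toSpecΓ_preimage_basicOpen]; rfl
  have hcov : ∀ x : {x : ↥(Spec Γ(D.Z.left, ⊤)) // n < Groth.FlatMor2.fibDeg fU x},
      ∃ c : D.inv, x.1 ∈ PrimeSpectrum.basicOpen (π c) ∧
        (∀ α, ∃ (m : ℕ) (p : D.inv), π p = π c ^ m * α) ∧
        ∃ (G : Over S) (a : (yon S).obj G ⟶ D.X'), IsAffine G.left ∧ RepWith @IsOpenImmersion a ∧
          ∀ z, Points.ofPt D.i z ∈ Set.range (Points.ofPt a) ↔ z ∈ D.Z.left.basicOpen (π c) := fun x => by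
    let z := D.Z.left.isoSpec.inv x.1
    have hx : D.Z.left.isoSpec.hom z = x.1 := by simp [z]
    have hz : z ∈ D.Omega := by
      by_contra hz
      have := hconst z hz
      rw [deg, hx] at this
      exact absurd x.2 (not_lt.2 this.le)
    obtain ⟨c, hc, h⟩ := D.exists_invariant_piece π hπ hz
    exact ⟨c, by rw [← hx]; exact (hpre _ z).1 hc, h⟩
  choose c hc hsurj hpiece using hcov
  obtain ⟨t, ht⟩ := (D.isCompact_lt_deg n).elim_finite_subcover
    (fun x => (PrimeSpectrum.basicOpen (π (c x)) : Set (PrimeSpectrum Γ(D.Z.left, ⊤))))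
    (fun x => (PrimeSpectrum.basicOpen (π (c x))).2) fun x hx => Set.mem_iUnion.2 ⟨⟨x, hx⟩, hc ⟨x, hx⟩⟩
  let ι := {x // x ∈ t}
  have : Finite ι := inferInstance
  let cj : ι → D.inv := fun j => c j.1
  let I : Ideal D.inv := Ideal.span (Set.range cj)
  let H := Groth.HensPair.Hz I
  have : Module.Flat D.inv H := Groth.HensPair.flat I
  have : HenselianRing H (I.map (algebraMap D.inv H)) := Groth.HensPair.henselianRing I
  let := π.toAlgebra
  let := D.uU.left.appTop.hom.toAlgebra
  let AH := H ⊗[D.inv] Γ(D.Z.left, ⊤)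
  let := (Algebra.TensorProduct.includeRight.toRingHom : Γ(D.Z.left, ⊤) →+* AH).toAlgebra
  have : HenselianRing AH (I.map (algebraMap D.inv AH)) := henselianRing_tensor cj fun G =>
    exists_uniform_bound D.t.left.appTop.hom D.s.left.appTop.hom D.jU.left.appTop.hom
      D.isNilpotent_of_jU D.surjective_jU D.uU.left.appTop.hom D.injective_uU π hπ cj
      (fun j α => hsurj j.1 α) G
  have : Algebra.Etale Γ(D.Z.left, ⊤) Γ(D.U.left, ⊤) :=
    RingHom.etale_algebraMap.1 ((HasRingHomProperty.iff_of_isAffine (P := @Etale)).1 D.etale_uU)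
  have : Surjective (Spec.map (CommRingCat.ofHom (algebraMap Γ(D.Z.left, ⊤) Γ(D.U.left, ⊤)))) :=
    ‹Surjective (Spec.map D.uU.left.appTop)›
  have hπalg : ∀ e, algebraMap D.inv AH e = algebraMap Γ(D.Z.left, ⊤) AH (π e) := fun e =>
    ((Algebra.TensorProduct.includeRight : Γ(D.Z.left, ⊤) →ₐ[D.inv] AH).commutes e).symm
  obtain ⟨W, _, _, τ, hWf, hWe, hτ, hWs⟩ := exists_finite_etale_cover (A := Γ(D.Z.left, ⊤)) (AH := AH)
    (B := Γ(D.U.left, ⊤)) (I.map (algebraMap D.inv AH)) n fun 𝔮 h𝔮 => by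
      refine le_antisymm (le_of_not_gt fun hlt => ?_) ?_
      · obtain ⟨x, hx, hxc⟩ := Set.mem_iUnion₂.1 (ht hlt)
        refine hxc ?_
        show algebraMap Γ(D.Z.left, ⊤) AH (π (c x)) ∈ 𝔮.asIdeal
        rw [← hπalg]
        exact h𝔮 (Ideal.mem_map_of_mem _ (Ideal.subset_span ⟨⟨x, hx⟩, rfl⟩))
      · obtain ⟨z, hz⟩ := D.Z.left.isoSpec.hom.surjective (PrimeSpectrum.comap (algebraMap Γ(D.Z.left, ⊤) AH) 𝔮)
        have := hge z
        rw [deg, hz] at this
        exact this
  -- the cover of `Q`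
  let Q : Over S := Over.mk hom
  let FH : Over S := Over.mk (Spec.map (CommRingCat.ofHom (algebraMap D.inv H)) ≫ hom)
  let gH : FH ⟶ Q := Over.homMk (Spec.map (CommRingCat.ofHom (algebraMap D.inv H))) rfl
  let Dc : ι → Over S := fun j =>
    Over.mk (Scheme.Opens.ι (X := Spec (CommRingCat.of D.inv)) (PrimeSpectrum.basicOpen (cj j)) ≫ hom)
  let gc : ∀ j, Dc j ⟶ Q := fun j =>
    Over.homMk (Scheme.Opens.ι (X := Spec (CommRingCat.of D.inv)) (PrimeSpectrum.basicOpen (cj j))) rfl
  let F : Option ι → Over S := fun o => o.elim FH Dc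
  let g : ∀ o, F o ⟶ Q := fun o => match o with
    | none => gH
    | some j => gc j
  have : IsAffine Q.left := inferInstanceAs (IsAffine (Spec _))
  have : ∀ o, IsAffine (F o).left := fun o => match o with
    | none => inferInstanceAs (IsAffine (Spec _))
    | some j => IsAffineOpen.Spec_basicOpen (R := CommRingCat.of D.inv) (cj j)
  have hgf : ∀ o, Flat (g o).left := fun o => match o with
    | none => HasRingHomProperty.Spec_iff.2 (RingHom.flat_algebraMap_iff.2 ‹Module.Flat D.inv H›)
    | some j => inferInstanceAs (Flat (Scheme.Opens.ι _))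
  have hgs : ∀ x : ↥Q.left, ∃ o, x ∈ Set.range (g o).left := fun x => by
    by_cases hx : ∃ j, x ∈ PrimeSpectrum.basicOpen (cj j)
    · obtain ⟨j, hj⟩ := hx
      exact ⟨some j, ⟨⟨x, hj⟩, rfl⟩⟩
    · refine ⟨none, ?_⟩
      -- `P/I → H/IH` is bijective
      obtain ⟨σ⟩ := Groth.HensPair.exists_toQuotient I
      have hI : I ≤ (x : PrimeSpectrum D.inv).asIdeal := Ideal.span_le.2 (by
        rintro _ ⟨j, rfl⟩
        by_contra h
        exact hx ⟨j, h⟩)
      refine ⟨PrimeSpectrum.comap ((Ideal.Quotient.factor hI).comp σ.toRingHom)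
        ⟨⊥, Ideal.bot_prime⟩, PrimeSpectrum.ext ?_⟩
      ext e
      show (Ideal.Quotient.factor hI) (σ (algebraMap D.inv H e)) ∈ (⊥ : Ideal _) ↔ e ∈ (x : PrimeSpectrum D.inv).asIdeal
      rw [σ.commutes, Ideal.mem_bot]
      exact Ideal.Quotient.eq_zero_iff_mem
  have hQ : IsAlgSpace ((yon S).obj Q) := IsAlgSpace.yon_obj Q
  have hF : ∀ o, IsAlgSpace (pullback f ((yon S).map (g o))) := fun o =>
    isAlgSpace_of_isPullback (IsPullback.of_hasPullback _ _) hQ.diag D.isAlgSpace (IsAlgSpace.yon_obj _)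
  have hpieces : ∀ o, ∃ (Y : Over S) (_ : IsAffine Y.left),
      Nonempty ((yon S).obj Y ≅ pullback f ((yon S).map (g o))) := by
    intro o
    match o with
    | some j =>
      obtain ⟨G, a, hG, ha, hr⟩ := hpiece j.1
      have : IsOpenImmersion (gc j).left := inferInstanceAs (IsOpenImmersion (Scheme.Opens.ι _))
      refine D.exists_affine_piece_baseChange (gc j) f hfZ ha fun z => (hr z).trans ?_
      show _ ↔ πZ.left z ∈ Set.range (Scheme.Opens.ι _)
      rw [Scheme.Opens.range_ι, hpre, hπZ]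
      rfl
    | none =>
      have sqS := isPullback_SpecMap_of_isPushout (CommRingCat.ofHom (algebraMap D.inv Γ(D.Z.left, ⊤)))
        (CommRingCat.ofHom (algebraMap D.inv H)) (CommRingCat.ofHom (Algebra.TensorProduct.includeRight.toRingHom : Γ(D.Z.left, ⊤) →+* AH))
        (CommRingCat.ofHom (algebraMap H AH)) (CommRingCat.isPushout_tensorProduct D.inv H Γ(D.Z.left, ⊤)).flip
      let ZF : Over S := Over.mk (Spec.map (CommRingCat.ofHom (algebraMap H AH)) ≫ FH.hom)
      let qF : ZF ⟶ FH := Over.homMk (Spec.map (CommRingCat.ofHom (algebraMap H AH))) rfl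
      have hπS : D.Z.left.isoSpec.inv ≫ πZ.left = Spec.map (CommRingCat.ofHom π) := by
        rw [hπZ, ← Category.assoc]
        show (D.Z.left.isoSpec.inv ≫ D.Z.left.isoSpec.hom) ≫ _ = _
        rw [Iso.inv_hom_id, Category.id_comp]
      let qZ : ZF ⟶ D.Z := Over.homMk (Spec.map (CommRingCat.ofHom (algebraMap Γ(D.Z.left, ⊤) AH)) ≫ D.Z.left.isoSpec.inv) (by
        show (_ ≫ D.Z.left.isoSpec.inv) ≫ D.Z.hom = Spec.map _ ≫ Spec.map _ ≫ hom
        rw [← Over.w πZ, Category.assoc, reassoc_of% hπS, ← Category.assoc, ← Category.assoc]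
        congr 1
        exact sqS.w)
      have sqZ : IsPullback qZ qF πZ gH := by
        refine IsPullback.of_map (Over.forget S) ?_ ?_
        · ext1
          show (_ ≫ D.Z.left.isoSpec.inv) ≫ πZ.left = _
          rw [Category.assoc, hπS]
          exact sqS.w
        · exact sqS.of_iso (Iso.refl _) D.Z.left.isoSpec.symm (Iso.refl _) (Iso.refl _) (by simp [qZ]; rfl)
            (by simp [qF]) (by
              show Spec.map _ ≫ 𝟙 _ = D.Z.left.isoSpec.inv ≫ πZ.left
              rw [hπS, Category.comp_id]; rfl) (by simp [gH])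
      let WO : Over S := Over.mk (Spec.map (CommRingCat.ofHom (algebraMap AH W)) ≫ ZF.hom)
      let wZ : WO ⟶ ZF := Over.homMk (Spec.map (CommRingCat.ofHom (algebraMap AH W))) rfl
      have hcomp : (Spec.map (CommRingCat.ofHom τ) ≫ D.U.left.isoSpec.inv) ≫ D.uU.left =
          Spec.map (CommRingCat.ofHom (algebraMap AH W)) ≫ qZ.left := by
        show _ = Spec.map _ ≫ Spec.map _ ≫ D.Z.left.isoSpec.inv
        rw [Category.assoc, ← Scheme.isoSpec_inv_naturality, ← Category.assoc, ← Spec.map_comp,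
          ← Category.assoc, ← Spec.map_comp]
        congr 2
        exact CommRingCat.hom_ext hτ
      let wU : WO ⟶ D.U := Over.homMk (Spec.map (CommRingCat.ofHom τ) ≫ D.U.left.isoSpec.inv) (by
        rw [← Over.w D.uU, ← Category.assoc, hcomp, Category.assoc, Over.w qZ]
        rfl)
      have : IsAffine ZF.left := inferInstanceAs (IsAffine (Spec _))
      have : IsAffine WO.left := inferInstanceAs (IsAffine (Spec _))
      have : IsAffine FH.left := inferInstanceAs (IsAffine (Spec _))
      have : Etale wZ.left := HasRingHomProperty.Spec_iff.2 (RingHom.etale_algebraMap.2 hWe)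
      have : IsFinite wZ.left := (IsFinite.SpecMap_iff _).2 (RingHom.finite_algebraMap.2 hWf)
      have : Surjective wZ.left := ⟨hWs⟩
      exact D.exists_affine_baseChange gH f hfU hfZ sqZ wU wZ (Over.OverMorphism.ext hcomp)
  -- descend
  have haff : IsAffineMor f := by
    refine (Groth.AlgSp2.isLocalOnBase_fpqc_isAffineMor (fun o => (yon S).obj (F o))
      (fun o => (yon S).map (g o)) hQ (fun o => IsAlgSpace.yon_obj _) (isFpqcCover_of_finite g hgf hgs)
      f D.isAlgSpace _ (fun o => pullback.snd f _) (fun o => pullback.fst f _) hF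
      fun o => IsPullback.of_hasPullback f _).2 fun o Z hZ b => ?_
    obtain ⟨Y, hY, ⟨e⟩⟩ := hpieces o
    obtain ⟨q, hq⟩ := (yon S).map_surjective (e.hom ≫ pullback.snd f ((yon S).map (g o)))
    obtain ⟨bl, rfl⟩ := (yon S).map_surjective b
    let M : Over S := Over.mk (pullback.snd q.left bl.left ≫ Z.hom)
    let m₂ : M ⟶ Z := Over.homMk (pullback.snd q.left bl.left) rfl
    let m₁ : M ⟶ Y := Over.homMk (pullback.fst q.left bl.left) (by
      show pullback.fst q.left bl.left ≫ Y.hom = pullback.snd q.left bl.left ≫ Z.hom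
      rw [← Over.w q, pullback.condition_assoc, Over.w bl])
    have hM : IsPullback m₁ m₂ q bl :=
      IsPullback.of_map (Over.forget S) (by ext1; exact pullback.condition) (IsPullback.of_hasPullback q.left bl.left)
    have : IsAffine Z.left := hZ
    have : IsAffine Y.left := hY
    refine ⟨M, m₂, (yon S).map m₁ ≫ e.hom, ?_, inferInstanceAs (IsAffine (pullback q.left bl.left))⟩
    exact (hM.map (yon S)).of_iso (Iso.refl _) e (Iso.refl _) (Iso.refl _) (by simp) (by simp)
      (by simp [hq]) (by simp)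
  obtain ⟨Y, iY, fst, sq, hY⟩ := haff ‹IsAffine Q.left› (𝟙 _)
  have : IsIso fst := sq.isIso_fst_of_isIso
  exact ⟨Y, hY, ⟨asIso fst⟩⟩

end Datum

end Groth.AlgSpThick
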