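import Groth.Agent.AlgSpThick.Pieces
import Groth.Agent.AlgSp2.AffineDescentLocal
import Groth.Agent.AlgSpBasic.AlgSpace

/-!
# The map from a thickening to the spectrum of its invariant functions

`X'` maps to `Q`, the spectrum of invariant functions on a chart. If the base changes of this map
along a flat affine cover of `Q` are affine, then `X'` is an affine scheme.
-/

set_option autoImplicit false
set_option backward.isDefEq.respectTransparency false

universe u

open CategoryTheory CategoryTheory.Limits AlgebraicGeometry Opposite AlgSp Groth.AlgSpBasic TopologicalSpace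

namespace Groth.AlgSpThick.Datum

variable {S : Scheme.{u}} (D : Datum S)

/-- The spectrum of invariant functions, over `S`. -/
theorem exists_spec_inv (π : D.inv →+* Γ(D.Z.left, ⊤))
    (hπ : ∀ e : D.inv, D.uU.left.appTop (π e) = D.jU.left.appTop e)
    {S₀ : S.Opens} (hS₀ : IsAffineOpen S₀) (hU : Set.range D.U'.hom ⊆ (S₀ : Set ↥S)) :
    ∃ (hom : Spec (CommRingCat.of D.inv) ⟶ S) (f : D.X' ⟶ (yon S).obj (Over.mk hom))
      (πU : D.U' ⟶ Over.mk hom) (πZ : D.Z ⟶ Over.mk hom),
      πU.left = D.U'.left.toSpecΓ ≫ Spec.map (CommRingCat.ofHom D.inv.subtype) ∧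
      πZ.left = D.Z.left.toSpecΓ ≫ Spec.map (CommRingCat.ofHom π) ∧
      D.p ≫ f = (yon S).map πU ∧ D.i ≫ f = (yon S).map πZ := by
  have : IsAffine S₀.toScheme := hS₀
  have hr : Set.range D.U'.hom ⊆ Set.range S₀.ι := by rwa [Scheme.Opens.range_ι]
  let ρ : D.U'.left ⟶ S₀.toScheme := IsOpenImmersion.lift S₀.ι D.U'.hom hr
  have hρ : D.t.left ≫ ρ = D.s.left ≫ ρ := by
    rw [← cancel_mono S₀.ι, Category.assoc, Category.assoc, IsOpenImmersion.lift_fac, Over.w D.t, Over.w D.s]
  let φ : Γ(S₀.toScheme, ⊤) →+* D.inv := ρ.appTop.hom.codRestrict D.inv fun x =>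
    congrArg (fun k : D.R.left ⟶ S₀.toScheme => k.appTop x) hρ
  let hom : Spec (CommRingCat.of D.inv) ⟶ S :=
    Spec.map (CommRingCat.ofHom φ) ≫ S₀.toScheme.isoSpec.inv ≫ S₀.ι
  let Q : Over S := Over.mk hom
  let πU : D.U' ⟶ Q := Over.homMk (D.U'.left.toSpecΓ ≫ Spec.map (CommRingCat.ofHom D.inv.subtype)) (by
    show (D.U'.left.toSpecΓ ≫ Spec.map _) ≫ Spec.map _ ≫ S₀.toScheme.isoSpec.inv ≫ S₀.ι = D.U'.hom
    rw [Category.assoc, ← Spec.map_comp_assoc,
      show CommRingCat.ofHom φ ≫ CommRingCat.ofHom D.inv.subtype = ρ.appTop from rfl,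
      ← Scheme.toSpecΓ_naturality_assoc]
    show ρ ≫ S₀.toScheme.isoSpec.hom ≫ S₀.toScheme.isoSpec.inv ≫ S₀.ι = D.U'.hom
    rw [Iso.hom_inv_id_assoc, IsOpenImmersion.lift_fac])
  have hts : D.t ≫ πU = D.s ≫ πU := Over.OverMorphism.ext (by
    show D.t.left ≫ D.U'.left.toSpecΓ ≫ _ = D.s.left ≫ D.U'.left.toSpecΓ ≫ _
    rw [Scheme.toSpecΓ_naturality_assoc, Scheme.toSpecΓ_naturality_assoc, ← Spec.map_comp, ← Spec.map_comp]
    congr 2
    ext e
    exact e.2)
  obtain ⟨f, hf⟩ := Groth.AlgSp2.exists_desc_of_etale D.p D.he D.hs ((yon S).map πU) fun T p q h => by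
    obtain ⟨l, hl⟩ := (yon S).map_surjective (D.sqR.lift p q h)
    have h₁ : (yon S).map l ≫ (yon S).map D.t = p := by rw [hl, D.sqR.lift_fst]
    have h₂ : (yon S).map l ≫ (yon S).map D.s = q := by rw [hl, D.sqR.lift_snd]
    rw [← h₁, ← h₂, Category.assoc, Category.assoc, ← Functor.map_comp, ← Functor.map_comp, ← Functor.map_comp, ← Functor.map_comp, hts]
  obtain ⟨πZ, hπZ⟩ := (yon S).map_surjective (D.i ≫ f)
  have hcomp : D.uU ≫ πZ = D.jU ≫ πU := (yon S).map_injective (by
    rw [Functor.map_comp, Functor.map_comp, hπZ, ← Category.assoc, ← D.sq.w, Category.assoc, hf])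
  have := D.etale_uU
  have := D.surjective_uU
  refine ⟨hom, f, πU, πZ, rfl, ?_, hf, hπZ.symm⟩
  rw [← cancel_epi D.uU.left, ← Over.comp_left, hcomp, Over.comp_left]
  show D.jU.left ≫ D.U'.left.toSpecΓ ≫ _ = _
  rw [Scheme.toSpecΓ_naturality_assoc, Scheme.toSpecΓ_naturality_assoc, ← Spec.map_comp, ← Spec.map_comp]
  congr 2
  ext e
  exact (hπ e).symm

/-- Base change of `X' → Q` to an affine `F` is affine when `Z ×_Q F` has a finite etale cover mapping
to the chart. -/
theorem exists_affine_baseChange {Q F : Over S} [IsAffine Q.left] [IsAffine F.left] (g : F ⟶ Q)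
    (f : D.X' ⟶ (yon S).obj Q) {πU : D.U' ⟶ Q} {πZ : D.Z ⟶ Q}
    (hfU : D.p ≫ f = (yon S).map πU) (hfZ : D.i ≫ f = (yon S).map πZ)
    {ZF : Over S} [IsAffine ZF.left] {qZ : ZF ⟶ D.Z} {qF : ZF ⟶ F} (sqZ : IsPullback qZ qF πZ g)
    {W : Over S} [IsAffine W.left] (wU : W ⟶ D.U) (wZ : W ⟶ ZF) (hw : wU ≫ D.uU = wZ ≫ qZ)
    [Etale wZ.left] [IsFinite wZ.left] [Surjective wZ.left] :
    ∃ (Y : Over S) (_ : IsAffine Y.left),
      Nonempty ((yon S).obj Y ≅ pullback f ((yon S).map g)) := by
  have hX : IsAlgSpace (pullback f ((yon S).map g)) :=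
    isAlgSpace_of_isPullback (IsPullback.of_hasPullback _ _) (IsAlgSpace.yon_obj Q).diag D.isAlgSpace
      (IsAlgSpace.yon_obj F)
  let Y := pullback f ((yon S).map g)
  let iF : (yon S).obj ZF ⟶ Y := pullback.lift ((yon S).map qZ ≫ D.i) ((yon S).map qF) (by
    rw [Category.assoc, hfZ, ← Functor.map_comp, sqZ.w, Functor.map_comp])
  have sqi : IsPullback ((yon S).map qZ) iF D.i (pullback.fst f ((yon S).map g)) := by
    refine IsPullback.of_bot ?_ (pullback.lift_fst _ _ _).symm (IsPullback.of_hasPullback f _)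
    rw [pullback.lift_snd, hfZ]
    exact sqZ.map (yon S)
  have hiF : IsThickMor iF := repWith_of_isPullback sqi D.hi
  let U'F : Over S := Over.mk (pullback.fst πU.left g.left ≫ D.U'.hom)
  let uq : U'F ⟶ D.U' := Over.homMk (pullback.fst πU.left g.left) rfl
  let uf : U'F ⟶ F := Over.homMk (pullback.snd πU.left g.left) (by
    show pullback.snd πU.left g.left ≫ F.hom = pullback.fst πU.left g.left ≫ D.U'.hom
    rw [← Over.w g, ← Over.w πU, ← Category.assoc, ← pullback.condition, Category.assoc])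
  have sqU : IsPullback uq uf πU g :=
    IsPullback.of_map (Over.forget S) (by ext1; exact pullback.condition)
      (IsPullback.of_hasPullback πU.left g.left)
  have : IsAffine U'F.left := inferInstanceAs (IsAffine (pullback πU.left g.left))
  let pF : (yon S).obj U'F ⟶ Y := pullback.lift ((yon S).map uq ≫ D.p) ((yon S).map uf) (by
    rw [Category.assoc, hfU, ← Functor.map_comp, sqU.w, Functor.map_comp])
  have sqp : IsPullback ((yon S).map uq) pF D.p (pullback.fst f ((yon S).map g)) := by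
    refine IsPullback.of_bot ?_ (pullback.lift_fst _ _ _).symm (IsPullback.of_hasPullback f _)
    rw [pullback.lift_snd, hfU]
    exact sqU.map (yon S)
  have heF : RepWith @Etale pF := repWith_of_isPullback sqp D.he
  obtain ⟨UF, jF, uF, sqF⟩ := exists_pullback_yon heF.rep iF
  -- the reduced chart maps to the chart
  obtain ⟨q₁, hq₁⟩ := (yon S).map_surjective (D.sq.lift ((yon S).map (jF ≫ uq)) ((yon S).map (uF ≫ qZ)) (by
    rw [Functor.map_comp, Category.assoc, sqp.w, ← Category.assoc, sqF.w, Category.assoc,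
      ← sqi.w, ← Category.assoc, ← Functor.map_comp]))
  have hq₁j : q₁ ≫ D.jU = jF ≫ uq := (yon S).map_injective (by rw [Functor.map_comp, hq₁, D.sq.lift_fst])
  have hq₁u : q₁ ≫ D.uU = uF ≫ qZ := (yon S).map_injective (by rw [Functor.map_comp, hq₁, D.sq.lift_snd])
  have sqUF : IsPullback q₁ uF D.uU qZ := by
    refine isPullback_of_yon (IsPullback.of_right ?_ ?_ D.sq)
    · rw [← Functor.map_comp, hq₁j, Functor.map_comp, sqi.w]
      exact sqF.paste_horiz sqp
    · rw [← Functor.map_comp, ← Functor.map_comp, hq₁u]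
  let k : W ⟶ UF := sqUF.lift wU wZ hw
  have hk : k ≫ uF = wZ := sqUF.lift_snd _ _ _
  have : Etale uF.left := heF.property iF _ uF sqF
  have : Etale k.left := by
    have : Etale (k.left ≫ uF.left) := by rw [← Over.comp_left, hk]; infer_instance
    exact Etale.of_comp k.left uF.left
  have : IsFinite (k ≫ uF).left := by rw [hk]; infer_instance
  have : Surjective (k ≫ uF).left := by rw [hk]; infer_instance
  exact exists_affine_of_finite_cover hX hiF heF sqF k

end Groth.AlgSpThick.Datum
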