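import Groth.Agent.AlgSpEt.UnivHomeo
import Groth.Agent.AlgSpBasic.FiniteEtaleQuot
import Groth.Agent.AlgSpBasic.Compact
import Groth.Agent.AlgSp2.ThickTop
import Groth.Agent.FlatMor2.AffineThickening

/-!
# Thickenings of affine schemes with a finite etale cover lifting

If the reduced side of a thickening `i : Z → X'` is affine and admits a finite etale surjection from
an affine scheme which factors etale through a chart of `X'`, then `X'` is affine.
-/

set_option autoImplicit false
set_option backward.isDefEq.respectTransparency false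

universe u

open CategoryTheory CategoryTheory.Limits AlgebraicGeometry Opposite AlgSp Groth.AlgSpBasic

namespace Groth.AlgSpThick

variable {S : Scheme.{u}}

theorem isIntegralHom_univInj_of_thick {A B : Scheme.{u}} {f : A ⟶ B} (h : MoreMor.IsThickening f) :
    IsIntegralHom f ∧ UniversallyInjective f := by
  have := h.1
  exact ⟨inferInstance, inferInstance⟩

theorem exists_affine_of_finite_cover {X' : Sp S} (hX' : IsAlgSpace X') {Z U' U W : Over S}
    [IsAffine Z.left] [IsAffine W.left] [IsAffine U'.left]
    {i : (yon S).obj Z ⟶ X'} (hi : IsThickMor i) {p : (yon S).obj U' ⟶ X'} (he : RepWith @Etale p)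
    {jU : U ⟶ U'} {uU : U ⟶ Z} (sq : IsPullback ((yon S).map jU) ((yon S).map uU) p i)
    (k : W ⟶ U) [Etale k.left] [IsFinite (k ≫ uU).left] [Surjective (k ≫ uU).left] :
    ∃ (Y : Over S) (_ : IsAffine Y.left), Nonempty ((yon S).obj Y ≅ X') := by
  have hjU : MoreMor.IsThickening jU.left := hi.property p _ jU sq.flip
  obtain ⟨_, _⟩ := isIntegralHom_univInj_of_thick hjU
  have : Surjective jU.left := hjU.2
  obtain ⟨W', l, m, hl, sqW⟩ := Groth.AlgSpEt.UH.exists_lift_scheme jU k
  have sqo := isPullback_left (isPullback_of_yon sqW)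
  have hm₁ : IsClosedImmersion m.left := MorphismProperty.of_isPullback sqo hjU.1
  have : Surjective m.left := MorphismProperty.of_isPullback sqo hjU.2
  have : IsAffine W'.left := FlatMor2.isAffine_of_surjective_closedImmersion m.left
  let p' : (yon S).obj W' ⟶ X' := (yon S).map l ≫ p
  have he' : RepWith @Etale p' := repWith_comp ((repWith_yon_map_iff _ l).2 hl) he
  -- the chart pulls back to `W`
  have sqZ : IsPullback ((yon S).map m) ((yon S).map (k ≫ uU)) p' i := by
    rw [Functor.map_comp]
    exact (sqW.flip).paste_vert sq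
  have hs' : RepWith @Surjective p' := by
    refine repWith_surjective_of_ofPt he'.rep fun x => ?_
    obtain ⟨z, rfl⟩ := (Groth.AlgSp2.isHomeomorph_map_of_isThickMor hi).surjective x
    obtain ⟨z₀, rfl⟩ := surjective_ofPt_of_repWith (a := 𝟙 ((yon S).obj Z))
      (repWith_isIso _) z
    obtain ⟨w, rfl⟩ := (k ≫ uU).left.surjective z₀
    refine ⟨m.left w, ?_⟩
    rw [Points.map_ofPt, Category.id_comp, ← ofPt_comp_yon, ← ofPt_comp_yon, sqZ.w]
  -- the kernel pair
  obtain ⟨R, t, s, sqR⟩ := exists_pullback_yon he'.rep p'
  let R₂ : Over S := Over.mk (pullback.fst s.left m.left ≫ R.hom)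
  let jR : R₂ ⟶ R := Over.homMk (pullback.fst s.left m.left) rfl
  let pr : R₂ ⟶ W := Over.homMk (pullback.snd s.left m.left) (by
    show pullback.snd s.left m.left ≫ W.hom = pullback.fst s.left m.left ≫ R.hom
    rw [← Over.w m, ← Over.w s, ← Category.assoc, ← pullback.condition, Category.assoc])
  have sqm : IsPullback jR pr s m :=
    IsPullback.of_map (Over.forget S) (by ext1; exact pullback.condition) (IsPullback.of_hasPullback s.left m.left)
  have hout : IsPullback ((yon S).map (jR ≫ t)) ((yon S).map pr) p' ((yon S).map (k ≫ uU) ≫ i) := by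
    rw [← sqZ.w, Functor.map_comp]
    exact (sqm.map (yon S)).paste_horiz sqR
  obtain ⟨lam, hlam⟩ := (yon S).map_surjective (sqZ.lift ((yon S).map (jR ≫ t))
    ((yon S).map pr ≫ (yon S).map (k ≫ uU)) (by rw [Category.assoc]; exact hout.w))
  have hsq₂ : IsPullback lam pr (k ≫ uU) (k ≫ uU) := by
    refine isPullback_of_yon (IsPullback.of_right ?_ ?_ sqZ)
    · rw [hlam, sqZ.lift_fst]
      exact hout
    · rw [hlam, sqZ.lift_snd]
  have : IsFinite pr.left :=
    MorphismProperty.of_isPullback (isPullback_left hsq₂) ‹IsFinite (k ≫ uU).left›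
  have : IsAffine R₂.left := isAffine_of_isAffineHom pr.left
  have hjR : MoreMor.IsThickening jR.left :=
    ⟨MorphismProperty.of_isPullback (isPullback_left sqm).flip hm₁,
      MorphismProperty.of_isPullback (isPullback_left sqm).flip ‹Surjective m.left›⟩
  have := hjR.1
  have := hjR.2
  have : IsAffine R.left := FlatMor2.isAffine_of_surjective_closedImmersion jR.left
  have : Etale s.left := repWith_fst_of_isPullback sqR he'
  have : IsFinite s.left := by
    have : UniversallyClosed (jR.left ≫ s.left) := by
      have : jR.left ≫ s.left = pr.left ≫ m.left := (isPullback_left sqm).w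
      rw [this]; infer_instance
    have : UniversallyClosed s.left := UniversallyClosed.of_comp_surjective jR.left s.left
    exact (IsFinite.iff_isIntegralHom_and_locallyOfFiniteType _).2
      ⟨IsIntegralHom.iff_universallyClosed_and_isAffineHom.2 ⟨this, inferInstance⟩, inferInstance⟩
  exact exists_iso_of_finite_etale_chart he' hs' sqR

end Groth.AlgSpThick
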