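import Groth.Agent.AlgSpThick.EtSite
import Groth.Agent.AlgSp2.AffineRows

/-!
# Morphisms of thickenings of algebraic spaces
-/

set_option autoImplicit false
set_option backward.isDefEq.respectTransparency false

universe u

open CategoryTheory CategoryTheory.Limits AlgebraicGeometry Opposite AlgSp Groth.AlgSpBasic

namespace Groth.AlgSpThick

variable {S : Scheme.{u}} {X X' Y Y' : Sp S} {i : X ⟶ X'} {j : Y ⟶ Y'} {f : X ⟶ Y} {f' : X' ⟶ Y'}

/-- Pullback squares of `f` and of `f ≫ j` agree for a monomorphism `j`. -/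
theorem isPullback_cancel_mono [Mono j] {A B : Sp S} {a : A ⟶ X} {b : A ⟶ B} {g : B ⟶ Y}
    (sq : IsPullback a b (f ≫ j) (g ≫ j)) : IsPullback a b f g :=
  ⟨⟨(cancel_mono j).1 (by rw [Category.assoc, Category.assoc, sq.w])⟩,
    ⟨PullbackCone.IsLimit.mk _ (fun s => sq.lift s.fst s.snd (by rw [← Category.assoc, s.condition, Category.assoc]))
      (fun s => sq.lift_fst _ _ _) (fun s => sq.lift_snd _ _ _)
      fun s m h₁ h₂ => sq.hom_ext (by rw [sq.lift_fst]; exact h₁) (by rw [sq.lift_snd]; exact h₂)⟩⟩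

/-- A scheme base change of `f'` is a thickening of a base change of `f`, if the latter is a scheme. -/
theorem exists_pullback_thick (hi : IsThickMor i) (hj : IsThickMor j) (hX' : IsAlgSpace X')
    (hY' : IsAlgSpace Y') (w : i ≫ f' = f ≫ j) (hf : Representable f) {V : Over S}
    (g : (yon S).obj V ⟶ Y') :
    ∃ (W W₀ V₀ : Over S) (snd : W ⟶ V) (h : W₀ ⟶ V₀) (iW : W₀ ⟶ W) (iV : V₀ ⟶ V)
      (fst : (yon S).obj W ⟶ X') (fst₀ : (yon S).obj W₀ ⟶ X) (g₀ : (yon S).obj V₀ ⟶ Y),
      IsPullback fst ((yon S).map snd) f' g ∧ IsPullback fst₀ ((yon S).map h) f g₀ ∧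
      MoreMor.IsThickening iW.left ∧ MoreMor.IsThickening iV.left ∧ h ≫ iV = iW ≫ snd := by
  obtain ⟨V₀, iV, g₀, sqV⟩ := hj.rep g
  have hiV : MoreMor.IsThickening iV.left := hj.property g g₀ iV sqV
  obtain ⟨W₀, h, fst₀, sqF⟩ := hf g₀
  have sqB : IsPullback fst₀ ((yon S).map h ≫ (yon S).map iV) (i ≫ f') g := by
    rw [w]; exact sqF.paste_vert sqV
  have sA := IsPullback.of_hasPullback f' g
  let c : (yon S).obj W₀ ⟶ pullback f' g := sA.lift (fst₀ ≫ i) ((yon S).map h ≫ (yon S).map iV)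
    (by rw [Category.assoc]; exact sqB.w)
  have sI : IsPullback fst₀ c i (pullback.fst f' g) :=
    IsPullback.of_bot (by rw [sA.lift_snd]; exact sqB) (sA.lift_fst _ _ _).symm sA
  have hc : IsThickMor c := repWith_of_isPullback sI hi
  obtain ⟨W, ⟨e⟩⟩ := exists_iso_yon_of_thick
    (isAlgSpace_of_isPullback sA hY'.diag hX' (IsAlgSpace.yon_obj V)) hc
  obtain ⟨snd, hsnd⟩ := (yon S).map_surjective (e.hom ≫ pullback.snd f' g)
  obtain ⟨iW, hiW⟩ := (yon S).map_surjective (c ≫ e.inv)
  have hiW' : IsThickMor ((yon S).map iW) := by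
    rw [hiW]
    exact repWith_of_isPullback
      (IsPullback.of_horiz_isIso ⟨by simp⟩ : IsPullback (𝟙 _) (c ≫ e.inv) c e.hom) hc
  refine ⟨W, W₀, V₀, snd, h, iW, iV, e.hom ≫ pullback.fst f' g, fst₀, g₀,
    sA.of_iso e.symm (Iso.refl _) (Iso.refl _) (Iso.refl _) (by simp) (by simp [hsnd]) (by simp) (by simp),
    sqF, (isThickMor_yon_map_iff iW).1 hiW', hiV, (yon S).map_injective ?_⟩
  rw [Functor.map_comp, Functor.map_comp, hiW, hsnd, Category.assoc, Iso.inv_hom_id_assoc]
  exact (sA.lift_snd _ _ _).symm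

theorem representable_thick (hi : IsThickMor i) (hj : IsThickMor j) (hX' : IsAlgSpace X')
    (hY' : IsAlgSpace Y') (w : i ≫ f' = f ≫ j) : Representable f ↔ Representable f' := by
  refine ⟨fun hf V g => ?_, fun hf V g => ?_⟩
  · obtain ⟨W, W₀, V₀, snd, h, iW, iV, fst, fst₀, g₀, sq, -⟩ := exists_pullback_thick hi hj hX' hY' w hf g
    exact ⟨W, snd, fst, sq⟩
  · have := Groth.AlgSp2.mono_thick hj
    obtain ⟨W, snd, fst, sq⟩ := hf (g ≫ j)
    obtain ⟨W₀, iW, fst₀, sqI⟩ := hi.rep fst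
    refine ⟨W₀, iW ≫ snd, fst₀, isPullback_cancel_mono (j := j) ?_⟩
    rw [← w, Functor.map_comp]
    exact sqI.paste_vert sq

theorem isAffineMor_thick (hi : IsThickMor i) (hj : IsThickMor j) (hX : IsAlgSpace X)
    (hX' : IsAlgSpace X') (hY : IsAlgSpace Y) (hY' : IsAlgSpace Y') (w : i ≫ f' = f ≫ j) :
    IsAffineMor f ↔ IsAffineMor f' := by
  refine ⟨fun hf V hV g => ?_, fun hf V hV g => ?_⟩
  · have hrep := (Groth.AlgSp2.repWith_isAffineHom_of_isAffineMor hX hY hf).rep
    obtain ⟨W, W₀, V₀, snd, h, iW, iV, fst, fst₀, g₀, sq, sq₀, hW, hiV, -⟩ :=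
      exists_pullback_thick hi hj hX' hY' w hrep g
    have := hiV.1
    have : IsAffine V.left := hV
    have : IsAffine V₀.left := isAffine_of_isAffineHom iV.left
    have : IsAffineHom h.left := (Groth.AlgSp2.repWith_isAffineHom_of_isAffineMor hX hY hf).property g₀ _ h sq₀
    have : IsAffine W₀.left := isAffine_of_isAffineHom h.left
    have := hW.1
    have := hW.2
    exact ⟨W, snd, fst, sq, FlatMor2.isAffine_of_surjective_closedImmersion iW.left⟩
  · have := Groth.AlgSp2.mono_thick hj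
    obtain ⟨W, snd, fst, sq, hW⟩ := hf hV (g ≫ j)
    obtain ⟨W₀, iW, fst₀, sqI⟩ := hi.rep fst
    have hiW : MoreMor.IsThickening iW.left := hi.property fst fst₀ iW sqI
    have := hiW.1
    refine ⟨W₀, iW ≫ snd, fst₀, isPullback_cancel_mono (j := j) ?_, isAffine_of_isAffineHom iW.left⟩
    rw [← w, Functor.map_comp]
    exact sqI.paste_vert sq

theorem isIntegralMor_thick (hi : IsThickMor i) (hj : IsThickMor j) (hX : IsAlgSpace X)
    (hX' : IsAlgSpace X') (hY : IsAlgSpace Y) (hY' : IsAlgSpace Y') (w : i ≫ f' = f ≫ j) :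
    IsIntegralMor f ↔ IsIntegralMor f' := by
  rw [Groth.AlgSp2.isIntegralMor_iff hX hY, Groth.AlgSp2.isIntegralMor_iff hX' hY']
  constructor
  · intro hf
    have haff : RepWith @IsAffineHom f' := Groth.AlgSp2.repWith_isAffineHom_of_isAffineMor hX' hY'
      ((isAffineMor_thick hi hj hX hX' hY hY' w).1
        (Groth.AlgSp2.isAffineMor_of_repWith (fun _ _ k (_ : IsIntegralHom k) => inferInstance) hf))
    refine repWith_of_exists fun V g => ?_
    obtain ⟨W, W₀, V₀, snd, h, iW, iV, fst, fst₀, g₀, sq, sq₀, hW, hiV, e⟩ :=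
      exists_pullback_thick hi hj hX' hY' w hf.rep g
    refine ⟨W, fst, snd, sq, ?_⟩
    have : IsIntegralHom h.left := hf.property g₀ _ h sq₀
    have : IsAffineHom snd.left := haff.property g _ snd sq
    have := hW.1
    have := hW.2
    have := hiV.1
    have : UniversallyClosed (iW.left ≫ snd.left) := by
      have : iW.left ≫ snd.left = h.left ≫ iV.left := by rw [← Over.comp_left, ← e]; rfl
      rw [this]; infer_instance
    have : UniversallyClosed snd.left := UniversallyClosed.of_comp_surjective iW.left snd.left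
    exact IsIntegralHom.iff_universallyClosed_and_isAffineHom.2 ⟨this, inferInstance⟩
  · intro hf
    have := Groth.AlgSp2.mono_thick hj
    refine repWith_of_exists fun V g => ?_
    obtain ⟨W, snd, fst, sq⟩ := hf.rep (g ≫ j)
    obtain ⟨W₀, iW, fst₀, sqI⟩ := hi.rep fst
    have hiW : MoreMor.IsThickening iW.left := hi.property fst fst₀ iW sqI
    have := hiW.1
    have : IsIntegralHom snd.left := hf.property _ fst snd sq
    refine ⟨W₀, fst₀, iW ≫ snd, isPullback_cancel_mono (j := j) ?_, ?_⟩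
    · rw [← w, Functor.map_comp]
      exact sqI.paste_vert sq
    · exact inferInstanceAs (IsIntegralHom (iW.left ≫ snd.left))

end Groth.AlgSpThick
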