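import Groth.Agent.AlgSpThick.Chart

/-!
# Affine open pieces of a thickening cut out by invariant functions
-/

set_option autoImplicit false
set_option backward.isDefEq.respectTransparency false

universe u

open CategoryTheory CategoryTheory.Limits AlgebraicGeometry Opposite AlgSp Groth.AlgSpBasic TopologicalSpace

namespace Groth.AlgSpThick.Datum

variable {S : Scheme.{u}} (D : Datum S)

/-- The points with a schematic open neighbourhood in the thickening. -/
def Omega : Set ↥D.Z.left :=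
  {z | ∃ (G : Over S) (a : (yon S).obj G ⟶ D.X'), RepWith @IsOpenImmersion a ∧
    Points.ofPt D.i z ∈ Set.range (Points.ofPt a)}

theorem injective_ofPt_i : Function.Injective (Points.ofPt D.i) := by
  have hb := Groth.AlgSp2.isHomeomorph_map_of_isThickMor D.hi
  intro z z' e
  rw [ofPt_eq_map D.i z, ofPt_eq_map D.i z'] at e
  have := hb.injective e
  exact (Points.schemeEquiv D.Z).injective this

/-- A basic open inside a schematic open is an affine open piece. -/
theorem exists_affine_piece {G : Over S} {a : (yon S).obj G ⟶ D.X'} (ha : RepWith @IsOpenImmersion a)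
    (h : Γ(D.Z.left, ⊤)) (hsub : ∀ z ∈ D.Z.left.basicOpen h, Points.ofPt D.i z ∈ Set.range (Points.ofPt a)) :
    ∃ (G₁ : Over S) (a₁ : (yon S).obj G₁ ⟶ D.X'), IsAffine G₁.left ∧ RepWith @IsOpenImmersion a₁ ∧
      ∀ z, Points.ofPt D.i z ∈ Set.range (Points.ofPt a₁) ↔ z ∈ D.Z.left.basicOpen h := by
  obtain ⟨W, jW, snd, sqW⟩ := exists_pullback_yon ha.rep D.i
  have hjW : MoreMor.IsThickening jW.left := D.hi.property a _ jW sqW.flip
  have := hjW.1
  have := hjW.2
  have : IsOpenImmersion snd.left := ha.property D.i _ snd sqW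
  let V : W.left.Opens := snd.left ⁻¹ᵁ D.Z.left.basicOpen h
  have hbij : Function.Bijective jW.left := ⟨jW.left.isClosedEmbedding.injective, jW.left.surjective⟩
  have hOg : IsOpen (jW.left '' (V : Set ↥W.left)) := by
    rw [← compl_compl (V : Set ↥W.left), Set.image_compl_eq hbij]
    exact (jW.left.isClosedMap _ V.isOpen.isClosed_compl).isOpen_compl
  let Og : G.left.Opens := ⟨_, hOg⟩
  have hVO : jW.left ⁻¹ᵁ Og = V := Opens.ext (hbij.1.preimage_image _)
  have hrange : ∀ z ∈ D.Z.left.basicOpen h, z ∈ snd.left.opensRange := fun z hz => by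
    obtain ⟨g, hg⟩ := hsub z hz
    obtain ⟨w, hw₁, hw₂⟩ := (ofPt_eq_ofPt_iff sqW g z).1 hg
    exact ⟨w, hw₂⟩
  have : IsAffine (jW.left ⁻¹ᵁ Og).toScheme := by
    rw [hVO]
    exact ((isAffineOpen_top D.Z.left).basicOpen h).preimage_of_isOpenImmersion snd.left hrange
  have : IsClosedImmersion (jW.left ∣_ Og) :=
    MorphismProperty.of_isPullback (isPullback_morphismRestrict jW.left Og).flip hjW.1
  have : Surjective (jW.left ∣_ Og) :=
    MorphismProperty.of_isPullback (isPullback_morphismRestrict jW.left Og).flip hjW.2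
  have : IsAffine Og.toScheme := FlatMor2.isAffine_of_surjective_closedImmersion (jW.left ∣_ Og)
  let G₁ : Over S := Over.mk (Og.ι ≫ G.hom)
  let ιG : G₁ ⟶ G := Over.homMk Og.ι rfl
  have ha₁ : RepWith @IsOpenImmersion ((yon S).map ιG ≫ a) :=
    repWith_comp ((repWith_yon_map_iff _ ιG).2 (inferInstanceAs (IsOpenImmersion Og.ι))) ha
  refine ⟨G₁, (yon S).map ιG ≫ a, ‹_›, ha₁, fun z => ⟨?_, fun hz => ?_⟩⟩
  · rintro ⟨g, hg⟩
    rw [ofPt_comp_yon] at hg
    obtain ⟨w, hw₁, hw₂⟩ := (ofPt_eq_ofPt_iff sqW _ z).1 hg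
    have : w ∈ jW.left ⁻¹ᵁ Og := by
      show jW.left w ∈ Og
      rw [hw₁]
      exact g.2
    rw [hVO] at this
    rw [← hw₂]
    exact this
  · obtain ⟨g, hg⟩ := hsub z hz
    obtain ⟨w, hw₁, hw₂⟩ := (ofPt_eq_ofPt_iff sqW g z).1 hg
    refine ⟨⟨g, ⟨w, ?_, hw₁⟩⟩, by rw [ofPt_comp_yon]; exact hg⟩
    show snd.left w ∈ D.Z.left.basicOpen h
    rwa [hw₂]

/-- Near a schematic point there is an invariant function `c` with affine piece, over which invariant
functions surject after inverting it. -/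
theorem exists_invariant_piece (π : D.inv →+* Γ(D.Z.left, ⊤))
    (hπ : ∀ e : D.inv, D.uU.left.appTop (π e) = D.jU.left.appTop e) {z : ↥D.Z.left}
    (hz : z ∈ D.Omega) :
    ∃ c : D.inv, z ∈ D.Z.left.basicOpen (π c) ∧
      (∀ α, ∃ (m : ℕ) (p : D.inv), π p = π c ^ m * α) ∧
      ∃ (G : Over S) (a : (yon S).obj G ⟶ D.X'), IsAffine G.left ∧ RepWith @IsOpenImmersion a ∧
        ∀ z, Points.ofPt D.i z ∈ Set.range (Points.ofPt a) ↔ z ∈ D.Z.left.basicOpen (π c) := by
  obtain ⟨G, a, ha, hzG⟩ := hz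
  have hi : Continuous (Points.map D.i) := (Groth.AlgSp2.isHomeomorph_map_of_isThickMor D.hi).continuous
  have hopen : IsOpen (Points.ofPt D.i ⁻¹' Set.range (Points.ofPt a)) :=
    Points.isOpen_iff.1 (isOpenMap_ofPt_of_repWith
      (fun _ _ φ (h : IsOpenImmersion φ) => φ.isOpenEmbedding.isOpenMap) ha).isOpen_range D.Z D.i
  obtain ⟨h, hhU, hzh⟩ := (isAffineOpen_top D.Z.left).exists_basicOpen_le
    (V := ⟨_, hopen⟩) ⟨z, hzG⟩ (Set.mem_univ _)
  obtain ⟨G₁, a₁, _, ha₁, hr⟩ := D.exists_affine_piece ha h fun z hz => hhU hz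
  obtain ⟨b, hb⟩ := D.surjective_jU (D.uU.left.appTop h)
  obtain ⟨x, n, m, hx, hm⟩ := D.exists_lift_invariant ha₁ h hr b hb h
  obtain ⟨N, c, hN, hc, hqc⟩ := exists_invariant_lift_pow D.t.left.appTop.hom D.s.left.appTop.hom
    D.jU.left.appTop.hom D.isNilpotent_of_jU b x n m (by rw [hx, ← hb, pow_succ']) (D.isNilpotent_sub h b hb) hm
  have hπc : π ⟨c, hc⟩ = h ^ N := D.injective_uU (by
    rw [hπ, map_pow, ← hb]; exact hqc)
  have hDc : D.Z.left.basicOpen (π ⟨c, hc⟩) = D.Z.left.basicOpen h := by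
    rw [hπc, Scheme.basicOpen_pow _ h hN]
  refine ⟨⟨c, hc⟩, by rw [hDc]; exact hzh, fun α => ?_, G₁, a₁, ‹_›, ha₁, fun z => by rw [hDc]; exact hr z⟩
  obtain ⟨x, n, m, hx, hm⟩ := D.exists_lift_invariant ha₁ (π ⟨c, hc⟩) (fun z => by rw [hDc]; exact hr z)
    c (hπ ⟨c, hc⟩).symm α
  refine ⟨2 * n + m, ⟨c ^ (m + n) * x, ?_⟩, D.injective_uU ?_⟩
  · show D.t.left.appTop (c ^ (m + n) * x) = D.s.left.appTop (c ^ (m + n) * x)
    have e : D.t.left.appTop c = D.s.left.appTop c := hc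
    rw [e] at hm
    rw [map_mul, map_mul, map_pow, map_pow, e, pow_add]
    linear_combination hm
  · rw [hπ, map_mul, map_mul, map_pow, map_pow, hπ, hx]
    ring

end Groth.AlgSpThick.Datum
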